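import Mathlib
import Cfsg.Agent.H150.FarSp
import Cfsg.Agent.S2469
import Cfsg.Agent.S2472

/-!
# Self-centralizing subgroups of prime order in small symplectic groups (helper732)

* `selfcent_of_orders`: if `r` divides `|G|` exactly once and `G` has no element of order `r s` for the other prime
  divisors `s` of `|G|`, then `G` has a self-centralizing subgroup of order `r`;
* `psp_selfcent`: `PSp_4(5)` and `PSp_6(3)` with `r = 13`, `PSp_6(2)` with `r = 7`.
-/

set_option autoImplicit false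
set_option linter.style.haveILetI false

namespace Cfsg.Agent.H732.SelfCent

open Cfsg

theorem selfcent_of_orders {G : Type*} [Group G] [Finite G] {r : ℕ} (hr : r.Prime) (h1 : r ∣ Nat.card G)
    (h2 : ¬ r ^ 2 ∣ Nat.card G)
    (h3 : ∀ s : ℕ, s.Prime → s ∣ Nat.card G → s ≠ r → ∀ g : G, orderOf g ≠ r * s) :
    ∃ R : Subgroup G, Nat.card R = r ∧ Subgroup.centralizer (R : Set G) = R := by
  haveI : Fact r.Prime := ⟨hr⟩
  obtain ⟨x, hx⟩ := exists_prime_orderOf_dvd_card' r h1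
  have hcR : Nat.card (Subgroup.zpowers x) = r := by rw [Nat.card_zpowers, hx]
  refine ⟨Subgroup.zpowers x, hcR, ?_⟩
  have hle : Subgroup.zpowers x ≤ Subgroup.centralizer (Subgroup.zpowers x : Set G) := by
    intro y hy
    rw [Subgroup.mem_centralizer_iff]
    intro z hz
    obtain ⟨a, rfl⟩ := Subgroup.mem_zpowers_iff.1 hy
    obtain ⟨b, rfl⟩ := Subgroup.mem_zpowers_iff.1 hz
    rw [← zpow_add, ← zpow_add, add_comm]
  have hC0 : Nat.card (Subgroup.centralizer (Subgroup.zpowers x : Set G)) ≠ 0 := Nat.card_pos.ne'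
  have hpow : Nat.card (Subgroup.centralizer (Subgroup.zpowers x : Set G)) =
      r ^ (Nat.card (Subgroup.centralizer (Subgroup.zpowers x : Set G))).primeFactorsList.length := by
    refine Nat.eq_prime_pow_of_unique_prime_dvd hC0 ?_
    intro s hs hsd
    by_contra hne
    haveI : Fact s.Prime := ⟨hs⟩
    obtain ⟨y, hy⟩ := exists_prime_orderOf_dvd_card' s hsd
    have hyG : orderOf (y : G) = s := by rw [Subgroup.orderOf_coe, hy]
    have hcomm : Commute x (y : G) := (Subgroup.mem_centralizer_iff.1 y.2) x (Subgroup.mem_zpowers x)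
    have hcop : (orderOf x).Coprime (orderOf (y : G)) := by
      rw [hx, hyG]
      exact (Nat.coprime_primes hr hs).2 (Ne.symm hne)
    refine h3 s hs (hsd.trans (Subgroup.card_subgroup_dvd_card _)) hne (x * y) ?_
    rw [hcomm.orderOf_mul_eq_mul_orderOf_of_coprime hcop, hx, hyG]
  refine (Subgroup.eq_of_le_of_card_ge hle ?_).symm
  rw [hcR, hpow]
  have hk : (Nat.card (Subgroup.centralizer (Subgroup.zpowers x : Set G))).primeFactorsList.length ≤ 1 := by
    by_contra hk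
    apply h2
    rw [not_le] at hk
    refine (pow_dvd_pow r hk).trans ?_
    rw [← hpow]
    exact Subgroup.card_subgroup_dvd_card _
  calc _ ≤ r ^ 1 := Nat.pow_le_pow_right hr.pos hk
    _ = r := pow_one r

/-- an isomorphism transports the conclusion -/
theorem selfcent_congr {G H : Type*} [Group G] [Group H] (e : G ≃* H) {r : ℕ}
    (h : ∃ R : Subgroup G, Nat.card R = r ∧ Subgroup.centralizer (R : Set G) = R) :
    ∃ R : Subgroup H, Nat.card R = r ∧ Subgroup.centralizer (R : Set H) = R := by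
  obtain ⟨R, hR, hC⟩ := h
  refine ⟨R.map e.toMonoidHom, ?_, ?_⟩
  · rw [Subgroup.card_map_of_injective e.injective, hR]
  · ext y
    rw [Subgroup.mem_centralizer_iff, Subgroup.mem_map]
    constructor
    · intro h
      refine ⟨e.symm y, ?_, e.apply_symm_apply y⟩
      rw [← hC, Subgroup.mem_centralizer_iff]
      intro z hz
      apply e.injective
      rw [map_mul, map_mul, e.apply_symm_apply]
      exact h (e z) ⟨z, hz, rfl⟩
    · rintro ⟨x, hx, rfl⟩ z ⟨w, hw, rfl⟩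
      rw [← hC, Subgroup.mem_centralizer_iff] at hx
      show e w * e x = e x * e w
      rw [← map_mul, ← map_mul, hx w hw]

/-- the prime divisors of a product of powers of small primes -/
theorem small_primes {s : ℕ} (hs : s.Prime) {a b c d e f g h : ℕ}
    (hd : s ∣ 2 ^ a * 3 ^ b * 5 ^ c * 7 ^ d * 11 ^ e * 13 ^ f * 17 ^ g * 31 ^ h) :
    (s = 2 ∧ a ≠ 0) ∨ (s = 3 ∧ b ≠ 0) ∨ (s = 5 ∧ c ≠ 0) ∨ (s = 7 ∧ d ≠ 0) ∨ (s = 11 ∧ e ≠ 0) ∨ (s = 13 ∧ f ≠ 0) ∨
      (s = 17 ∧ g ≠ 0) ∨ (s = 31 ∧ h ≠ 0) := by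
  have key : ∀ {p k : ℕ}, p.Prime → s ∣ p ^ k → s = p ∧ k ≠ 0 := by
    intro p k hp hk
    refine ⟨(Nat.prime_dvd_prime_iff_eq hs hp).1 (hs.dvd_of_dvd_pow hk), ?_⟩
    rintro rfl
    rw [pow_zero, Nat.dvd_one] at hk
    exact hs.one_lt.ne' hk
  rcases hs.dvd_mul.1 hd with hd | hd
  · rcases hs.dvd_mul.1 hd with hd | hd
    · rcases hs.dvd_mul.1 hd with hd | hd
      · rcases hs.dvd_mul.1 hd with hd | hd
        · rcases hs.dvd_mul.1 hd with hd | hd
          · rcases hs.dvd_mul.1 hd with hd | hd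
            · rcases hs.dvd_mul.1 hd with hd | hd
              · exact Or.inl (key Nat.prime_two hd)
              · exact Or.inr (Or.inl (key Nat.prime_three hd))
            · exact Or.inr (Or.inr (Or.inl (key (by norm_num) hd)))
          · exact Or.inr (Or.inr (Or.inr (Or.inl (key (by norm_num) hd))))
        · exact Or.inr (Or.inr (Or.inr (Or.inr (Or.inl (key (by norm_num) hd)))))
      · exact Or.inr (Or.inr (Or.inr (Or.inr (Or.inr (Or.inl (key (by norm_num) hd))))))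
    · exact Or.inr (Or.inr (Or.inr (Or.inr (Or.inr (Or.inr (Or.inl (key (by norm_num) hd)))))))
  · exact Or.inr (Or.inr (Or.inr (Or.inr (Or.inr (Or.inr (Or.inr (key (by norm_num) hd)))))))

/-- two odd primes which are not adjacent in the prime graph of `PSp` -/
theorem psp_not_adj {F : Type*} [Field F] [Fintype F] {q : ℕ} (hq : q.Prime) (hF : Fintype.card F = q) {n : ℕ}
    (hn : 2 ≤ n) (hsm : n = 2 → 3 ≤ q) {P s : ℕ} (hP : P.Prime) (hs : s.Prime) (hP2 : P ≠ 2) (hs2 : s ≠ 2)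
    (hPq : P ≠ q) (hsq : s ≠ q) (hne : s ≠ P) (hPG : P ∣ Nat.card (Cfsg.PSp n F))
    (hsG : s ∣ Nat.card (Cfsg.PSp n F)) (k l ηk ηl : ℕ) (hk : orderOf ((q : ℕ) : ZMod s) = k)
    (hl : orderOf ((q : ℕ) : ZMod P) = l) (h1 : (Odd k ∧ ηk = k) ∨ (Even k ∧ 2 * ηk = k))
    (h2 : (Odd l ∧ ηl = l) ∨ (Even l ∧ 2 * ηl = l)) (hkl : ηk ≤ ηl) (hb : n < ηk + ηl)
    (ht : ¬ ∃ t : ℕ, Odd t ∧ l = k * t) (g : Cfsg.PSp n F) : orderOf g ≠ P * s := by
  haveI : Fact q.Prime := ⟨hq⟩
  haveI : CharP F q := charP_of_card_eq_prime hF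
  have h := (Cfsg.Agent.S2469.result q n hn (by rw [hF]; exact hsm) s P hs hP hs2 hP2 hsq hPq hne hsG hPG k l ηk ηl
    (by rw [hF]; exact hk.symm) (by rw [hF]; exact hl.symm) h1 h2 hkl).2 ⟨hb, ht⟩
  intro hg
  exact h ⟨g, by rw [hg, mul_comm]⟩

/-- an odd prime which is not adjacent to the characteristic in the prime graph of `PSp` -/
theorem psp_not_adj_char {F : Type*} [Field F] [Fintype F] {q : ℕ} (hq : q.Prime) (hF : Fintype.card F = q) {n : ℕ}
    (hn : 2 ≤ n) (hsm : n = 2 → 3 ≤ q) {P : ℕ} (hP : P.Prime) (hP2 : P ≠ 2)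
    (hPq : P ≠ q) (hPG : P ∣ Nat.card (Cfsg.PSp n F)) (l ηl : ℕ)
    (hl : orderOf ((q : ℕ) : ZMod P) = l)
    (h2 : (Odd l ∧ ηl = l) ∨ (Even l ∧ 2 * ηl = l)) (hb : n - 1 < ηl)
    (g : Cfsg.PSp n F) : orderOf g ≠ P * q := by
  haveI : Fact q.Prime := ⟨hq⟩
  haveI : CharP F q := charP_of_card_eq_prime hF
  have h := (Cfsg.Agent.S2472.result q n hn (by rw [hF]; exact hsm) P hP hP2 hPq hPG l ηl
    (by rw [hF]; exact hl.symm) h2).2 hb
  intro hg
  exact h ⟨g, hg⟩

theorem card_psp {F : Type*} [Field F] [Fintype F] {q : ℕ} (hF : Fintype.card F = q) {n : ℕ} (hn : 1 ≤ n) :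
    Nat.card (Cfsg.PSp n F) * Nat.gcd 2 (q - 1) = q ^ (n ^ 2) * ∏ i ∈ Finset.range n, (q ^ (2 * (i + 1)) - 1) := by
  rw [← Cfsg.Agent.S0245.result hF n, ← Cfsg.Agent.S0246.result hF n hn]
  exact (Subgroup.card_eq_card_quotient_mul_card_subgroup _).symm

instance finite_psp {F : Type*} [Field F] [Fintype F] (n : ℕ) : Finite (Cfsg.PSp n F) := by
  haveI : Finite (Matrix.symplecticGroup (Fin n) F) := inferInstance
  exact inferInstanceAs (Finite (Matrix.symplecticGroup (Fin n) F ⧸ Subgroup.center (Matrix.symplecticGroup (Fin n) F)))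

theorem ord_eq {m : ℕ} {x : ZMod m} {k : ℕ} (hk : 0 < k) (h1 : x ^ k = 1) (h2 : ∀ j < k, 0 < j → x ^ j ≠ 1) :
    orderOf x = k := (orderOf_eq_iff hk).2 ⟨h1, h2⟩

theorem psp_four_five {F : Type*} [Field F] [Fintype F] (hF : Fintype.card F = 5) :
    ∃ R : Subgroup (Cfsg.PSp 2 F), Nat.card R = 13 ∧ Subgroup.centralizer (R : Set (Cfsg.PSp 2 F)) = R := by
  have hcard : Nat.card (Cfsg.PSp 2 F) = 2 ^ 6 * 3 ^ 2 * 5 ^ 4 * 7 ^ 0 * 11 ^ 0 * 13 ^ 1 * 17 ^ 0 * 31 ^ 0 := by
    have h := card_psp hF (n := 2) (by norm_num)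
    rw [show Nat.gcd 2 (5 - 1) = 2 by norm_num] at h
    simp only [Finset.prod_range_succ, Finset.prod_range_zero] at h
    norm_num at h ⊢
    omega
  have h13 : Nat.Prime 13 := by norm_num
  have hd : 13 ∣ Nat.card (Cfsg.PSp 2 F) := by rw [hcard]; norm_num
  have ho : orderOf ((5 : ℕ) : ZMod 13) = 4 := ord_eq (by norm_num) (by decide) (by decide)
  refine selfcent_of_orders h13 hd (by rw [hcard]; norm_num) ?_
  intro s hs hsd hne g
  have hsd' := hsd
  rw [hcard] at hsd'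
  rcases small_primes hs hsd' with ⟨rfl, -⟩ | ⟨rfl, -⟩ | ⟨rfl, -⟩ | ⟨rfl, h⟩ | ⟨rfl, h⟩ | ⟨rfl, h⟩ | ⟨rfl, h⟩ | ⟨rfl, h⟩
  · have h2 : (2 : F) ≠ 0 := by
      intro h2
      haveI : Fact (Nat.Prime 5) := ⟨by norm_num⟩
      haveI : CharP F 5 := charP_of_card_eq_prime hF
      have := (CharP.cast_eq_zero_iff F 5 2).1 (by exact_mod_cast h2)
      norm_num at this
    have hqe : Nat.card F = 5 := by rw [Nat.card_eq_fintype_card, hF]
    have h13F : ((13 : ℕ) : F) ≠ 0 :=
      Cfsg.Agent.H150.natCast_ne_zero_of_not_dvd h13 (by rw [hqe]; norm_num)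
    have := Cfsg.Agent.H150.psp_far_plus h2 (n := 2) (by norm_num) h13 (by norm_num) h13F
      (by rw [hqe]; exact ho) (by rw [hqe]; norm_num) (by rw [hqe]; norm_num) g
    intro hg
    exact this (by rw [hg])
  · exact psp_not_adj (by norm_num) hF le_rfl (by norm_num) h13 hs (by norm_num) (by norm_num) (by norm_num)
      (by norm_num) (by norm_num) hd hsd 2 4 1 2 (ord_eq (by norm_num) (by decide) (by decide)) ho
      (by decide) (by decide) (by norm_num) (by norm_num)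
      (by rintro ⟨t, ht, h⟩; obtain ⟨c, rfl⟩ := ht; omega) g
  · exact psp_not_adj_char (by norm_num) hF le_rfl (by norm_num) h13 (by norm_num) (by norm_num) hd 4 2 ho
      (by decide) (by norm_num) g
  all_goals exact absurd rfl ‹_›

theorem psp_six_three {F : Type*} [Field F] [Fintype F] (hF : Fintype.card F = 3) :
    ∃ R : Subgroup (Cfsg.PSp 3 F), Nat.card R = 13 ∧ Subgroup.centralizer (R : Set (Cfsg.PSp 3 F)) = R := by
  have hcard : Nat.card (Cfsg.PSp 3 F) = 2 ^ 9 * 3 ^ 9 * 5 ^ 1 * 7 ^ 1 * 11 ^ 0 * 13 ^ 1 * 17 ^ 0 * 31 ^ 0 := by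
    have h := card_psp hF (n := 3) (by norm_num)
    rw [show Nat.gcd 2 (3 - 1) = 2 by norm_num] at h
    simp only [Finset.prod_range_succ, Finset.prod_range_zero] at h
    norm_num at h ⊢
    omega
  have h13 : Nat.Prime 13 := by norm_num
  have hd : 13 ∣ Nat.card (Cfsg.PSp 3 F) := by rw [hcard]; norm_num
  have ho : orderOf ((3 : ℕ) : ZMod 13) = 3 := ord_eq (by norm_num) (by decide) (by decide)
  refine selfcent_of_orders h13 hd (by rw [hcard]; norm_num) ?_
  intro s hs hsd hne g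
  have hsd' := hsd
  rw [hcard] at hsd'
  rcases small_primes hs hsd' with ⟨rfl, -⟩ | ⟨rfl, -⟩ | ⟨rfl, -⟩ | ⟨rfl, -⟩ | ⟨rfl, h⟩ | ⟨rfl, h⟩ | ⟨rfl, h⟩ | ⟨rfl, h⟩
  · have h2 : (2 : F) ≠ 0 := by
      intro h2
      haveI : Fact (Nat.Prime 3) := ⟨by norm_num⟩
      haveI : CharP F 3 := charP_of_card_eq_prime hF
      have := (CharP.cast_eq_zero_iff F 3 2).1 (by exact_mod_cast h2)
      norm_num at this
    have hqe : Nat.card F = 3 := by rw [Nat.card_eq_fintype_card, hF]
    have h13F : ((13 : ℕ) : F) ≠ 0 :=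
      Cfsg.Agent.H150.natCast_ne_zero_of_not_dvd h13 (by rw [hqe]; norm_num)
    have := Cfsg.Agent.H150.psp_far_minus h2 (n := 3) (by norm_num) h13 (by norm_num) h13F
      (by rw [hqe]; exact ho) (by decide) (by rw [hqe]) g
    intro hg
    exact this (by rw [hg])
  · exact psp_not_adj_char (by norm_num) hF (by norm_num) (by norm_num) h13 (by norm_num) (by norm_num) hd 3 3 ho
      (by decide) (by norm_num) g
  · exact psp_not_adj (by norm_num) hF (by norm_num) (by norm_num) h13 hs (by norm_num) (by norm_num) (by norm_num)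
      (by norm_num) (by norm_num) hd hsd 4 3 2 3 (ord_eq (by norm_num) (by decide) (by decide)) ho
      (by decide) (by decide) (by norm_num) (by norm_num)
      (by rintro ⟨t, ht, h⟩; omega) g
  · exact psp_not_adj (by norm_num) hF (by norm_num) (by norm_num) h13 hs (by norm_num) (by norm_num) (by norm_num)
      (by norm_num) (by norm_num) hd hsd 6 3 3 3 (ord_eq (by norm_num) (by decide) (by decide)) ho
      (by decide) (by decide) (by norm_num) (by norm_num)
      (by rintro ⟨t, ht, h⟩; omega) g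
  all_goals exact absurd rfl ‹_›

theorem psp_six_two {F : Type*} [Field F] [Fintype F] (hF : Fintype.card F = 2) :
    ∃ R : Subgroup (Cfsg.PSp 3 F), Nat.card R = 7 ∧ Subgroup.centralizer (R : Set (Cfsg.PSp 3 F)) = R := by
  have hcard : Nat.card (Cfsg.PSp 3 F) = 2 ^ 9 * 3 ^ 4 * 5 ^ 1 * 7 ^ 1 * 11 ^ 0 * 13 ^ 0 * 17 ^ 0 * 31 ^ 0 := by
    have h := card_psp hF (n := 3) (by norm_num)
    rw [show Nat.gcd 2 (2 - 1) = 1 by norm_num] at h
    simp only [Finset.prod_range_succ, Finset.prod_range_zero] at h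
    norm_num at h ⊢
    omega
  have h7 : Nat.Prime 7 := by norm_num
  have hd : 7 ∣ Nat.card (Cfsg.PSp 3 F) := by rw [hcard]; norm_num
  have ho : orderOf ((2 : ℕ) : ZMod 7) = 3 := ord_eq (by norm_num) (by decide) (by decide)
  refine selfcent_of_orders h7 hd (by rw [hcard]; norm_num) ?_
  intro s hs hsd hne g
  have hsd' := hsd
  rw [hcard] at hsd'
  rcases small_primes hs hsd' with ⟨rfl, -⟩ | ⟨rfl, -⟩ | ⟨rfl, -⟩ | ⟨rfl, -⟩ | ⟨rfl, h⟩ | ⟨rfl, h⟩ | ⟨rfl, h⟩ | ⟨rfl, h⟩
  · exact psp_not_adj_char (by norm_num) hF (by norm_num) (by norm_num) h7 (by norm_num) (by norm_num) hd 3 3 ho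
      (by decide) (by norm_num) g
  · exact psp_not_adj (by norm_num) hF (by norm_num) (by norm_num) h7 hs (by norm_num) (by norm_num) (by norm_num)
      (by norm_num) (by norm_num) hd hsd 2 3 1 3 (ord_eq (by norm_num) (by decide) (by decide)) ho
      (by decide) (by decide) (by norm_num) (by norm_num)
      (by rintro ⟨t, ht, h⟩; omega) g
  · exact psp_not_adj (by norm_num) hF (by norm_num) (by norm_num) h7 hs (by norm_num) (by norm_num) (by norm_num)
      (by norm_num) (by norm_num) hd hsd 4 3 2 3 (ord_eq (by norm_num) (by decide) (by decide)) ho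
      (by decide) (by decide) (by norm_num) (by norm_num)
      (by rintro ⟨t, ht, h⟩; omega) g
  · exact absurd rfl hne
  all_goals exact absurd rfl ‹_›

/-- **`PSp_4(5)`, `PSp_6(3)` (`r = 13`), `PSp_6(2)` (`r = 7`) have a self-centralizing subgroup of order `r`.** -/
theorem psp_selfcent (m q r : ℕ) (h : (m, q, r) ∈ [(2, 5, 13), (3, 3, 13), (3, 2, 7)]) (F : Type) [Field F]
    [Fintype F] (hF : Fintype.card F = q) :
    ∃ R : Subgroup (Cfsg.PSp m F), Nat.card R = r ∧ Subgroup.centralizer (R : Set (Cfsg.PSp m F)) = R := by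
  simp only [List.mem_cons, Prod.mk.injEq, List.not_mem_nil, or_false] at h
  rcases h with ⟨rfl, rfl, rfl⟩ | ⟨rfl, rfl, rfl⟩ | ⟨rfl, rfl, rfl⟩
  · exact psp_four_five hF
  · exact psp_six_three hF
  · exact psp_six_two hF

end Cfsg.Agent.H732.SelfCent
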