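import Mathlib
import Cfsg.Agent.H150.FarOrthEven
import Cfsg.Agent.H732.SelfCent

/-!
# Self-centralizing subgroups of prime order in small orthogonal groups over `F_2` (helper732)

`omega8plus_selfcent` (`7`), `omega10plus_selfcent` (`31`), `omega8minus_selfcent` (`17`).
-/

set_option autoImplicit false
set_option linter.style.haveILetI false

namespace Cfsg.Agent.H732.SelfCent

open Module Cfsg
open Cfsg.Agent.LieClassical.OrthCount Cfsg.Agent.LieClassical.OmegaReindex
open Cfsg.Agent.LieClassical.OrthCenter Cfsg.Agent.LieClassical.OrthCore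
open Cfsg.Agent.H377 Cfsg.Agent.H150

variable {F : Type*} [Field F]

/-- an element of `PΩ(Q)` in characteristic two as a linear map -/
theorem exists_lin [Finite F] {ι : Type} [Fintype ι] [DecidableEq ι] (h2 : (2 : F) = 0)
    (Q : QuadraticForm F (ι → F)) (hQ : (QuadraticMap.polarBilin Q).Nondegenerate)
    (hn : 3 ≤ Fintype.card ι) (hs : ∃ u : ι → F, u ≠ 0 ∧ Q u = 0) (g : POmega F (⇑Q)) :
    ∃ S : OG Q, ∀ j : ℕ, S ^ j = 1 ↔ orderOf g ∣ j := by
  obtain ⟨T, rfl⟩ := QuotientGroup.mk_surjective g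
  refine ⟨isometryGroupEquiv Q T.1, fun j => ?_⟩
  rw [orderOf_dvd_iff_pow_eq_one, ← QuotientGroup.mk_pow, QuotientGroup.eq_one_iff,
    center_omega_eq_bot_char_two h2 hQ hn hs, Subgroup.mem_bot, ← map_pow]
  constructor
  · intro h
    have := (isometryGroupEquiv Q).injective (h.trans (map_one (isometryGroupEquiv Q)).symm)
    apply Subtype.ext
    rw [SubgroupClass.coe_pow, this]
    rfl
  · intro h
    have : T.1 ^ j = 1 := by rw [← SubgroupClass.coe_pow, h]; rfl
    rw [this, map_one]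

theorem polar_alt {V : Type*} [AddCommGroup V] [Module F V] (h2 : (2 : F) = 0) (Q : QuadraticForm F V) (v : V) :
    QuadraticMap.polarBilin Q v v = 0 := by
  show QuadraticMap.polar Q v v = 0
  rw [QuadraticMap.polar_self, two_nsmul, ← two_mul, h2, zero_mul]

/-- element orders of `PΩ(Q)` are element orders of `PSp` -/
theorem exists_psp_of_pomega [Finite F] {ι : Type} [Fintype ι] [DecidableEq ι] (h2 : (2 : F) = 0)
    (Q : QuadraticForm F (ι → F)) (hQ : (QuadraticMap.polarBilin Q).Nondegenerate) {n : ℕ}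
    (hdim : finrank F (ι → F) = 2 * n) (hn : 2 ≤ n) (hs : ∃ u : ι → F, u ≠ 0 ∧ Q u = 0) (g : POmega F (⇑Q)) :
    ∃ g' : PSp n F, orderOf g' = orderOf g := by
  have hι : Fintype.card ι = 2 * n := by rw [← hdim]; simp
  obtain ⟨S, hS⟩ := exists_lin h2 Q hQ (by omega) hs g
  have hB : ∀ v w, QuadraticMap.polarBilin Q (((S : (ι → F) ≃ₗ[F] (ι → F)) : (ι → F) →ₗ[F] (ι → F)) v)
      (((S : (ι → F) ≃ₗ[F] (ι → F)) : (ι → F) →ₗ[F] (ι → F)) w) = QuadraticMap.polarBilin Q v w :=
    fun v w => polar_isom Q _ (fun v => S.2 v) v w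
  refine exists_psp (by omega) (QuadraticMap.polarBilin Q) (polar_alt h2 Q) (fun u hu => hQ.1 u hu) hdim _ hB _
    fun j => ?_
  have h1 : (1 : End F (ι → F)) = -1 := by
    apply LinearMap.ext
    intro v
    rw [LinearMap.neg_apply, Module.End.one_apply, eq_neg_iff_add_eq_zero, ← two_smul F, h2, zero_smul]
  rw [← h1, or_self, ← og_pow_eq_one_iff S _ (fun v => rfl), hS]

theorem two_eq_zero_of_card [Fintype F] (hF : Fintype.card F = 2) : (2 : F) = 0 := by
  haveI : Fact (Nat.Prime 2) := ⟨Nat.prime_two⟩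
  haveI : CharP F 2 := charP_of_card_eq_prime hF
  exact_mod_cast CharP.cast_eq_zero F 2

/-- **the plus group in dimension ten over `F_2`** -/
theorem card_psp_ten [Fintype F] (hF : Fintype.card F = 2) :
    Nat.card (Cfsg.PSp 5 F) = 2 ^ 25 * 3 ^ 6 * 5 ^ 2 * 7 ^ 1 * 11 ^ 1 * 13 ^ 0 * 17 ^ 1 * 31 ^ 1 := by
  have h := card_psp hF (n := 5) (by norm_num)
  rw [show Nat.gcd 2 (2 - 1) = 1 by norm_num] at h
  simp only [Finset.prod_range_succ, Finset.prod_range_zero] at h
  norm_num at h ⊢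
  omega

theorem card_psp_eight [Fintype F] (hF : Fintype.card F = 2) :
    Nat.card (Cfsg.PSp 4 F) = 2 ^ 16 * 3 ^ 5 * 5 ^ 2 * 7 ^ 1 * 11 ^ 0 * 13 ^ 0 * 17 ^ 1 * 31 ^ 0 := by
  have h := card_psp hF (n := 4) (by norm_num)
  rw [show Nat.gcd 2 (2 - 1) = 1 by norm_num] at h
  simp only [Finset.prod_range_succ, Finset.prod_range_zero] at h
  norm_num at h ⊢
  omega

theorem psp_ten_orders [Fintype F] (hF : Fintype.card F = 2) {s : ℕ} (hs : s.Prime)
    (hsd : s ∣ Nat.card (Cfsg.PSp 5 F)) (hne : s ≠ 31) (g : Cfsg.PSp 5 F) : orderOf g ≠ 31 * s := by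
  have hcard := card_psp_ten hF
  have h31 : Nat.Prime 31 := by norm_num
  have hd : 31 ∣ Nat.card (Cfsg.PSp 5 F) := by rw [hcard]; norm_num
  have ho : orderOf ((2 : ℕ) : ZMod 31) = 5 := ord_eq (by norm_num) (by decide) (by decide)
  have hsd' := hsd
  rw [hcard] at hsd'
  rcases small_primes hs hsd' with ⟨rfl, -⟩ | ⟨rfl, -⟩ | ⟨rfl, -⟩ | ⟨rfl, -⟩ | ⟨rfl, -⟩ | ⟨rfl, h⟩ | ⟨rfl, -⟩ | ⟨rfl, h⟩
  · exact psp_not_adj_char (by norm_num) hF (by norm_num) (by norm_num) h31 (by norm_num) (by norm_num) hd 5 5 ho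
      (by decide) (by norm_num) g
  · exact psp_not_adj (by norm_num) hF (by norm_num) (by norm_num) h31 hs (by norm_num) (by norm_num) (by norm_num)
      (by norm_num) (by norm_num) hd hsd 2 5 1 5 (ord_eq (by norm_num) (by decide) (by decide)) ho
      (by decide) (by decide) (by norm_num) (by norm_num)
      (by rintro ⟨t, ht, h⟩; omega) g
  · exact psp_not_adj (by norm_num) hF (by norm_num) (by norm_num) h31 hs (by norm_num) (by norm_num) (by norm_num)
      (by norm_num) (by norm_num) hd hsd 4 5 2 5 (ord_eq (by norm_num) (by decide) (by decide)) ho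
      (by decide) (by decide) (by norm_num) (by norm_num)
      (by rintro ⟨t, ht, h⟩; omega) g
  · exact psp_not_adj (by norm_num) hF (by norm_num) (by norm_num) h31 hs (by norm_num) (by norm_num) (by norm_num)
      (by norm_num) (by norm_num) hd hsd 3 5 3 5 (ord_eq (by norm_num) (by decide) (by decide)) ho
      (by decide) (by decide) (by norm_num) (by norm_num)
      (by rintro ⟨t, ht, h⟩; omega) g
  · exact psp_not_adj (by norm_num) hF (by norm_num) (by norm_num) h31 hs (by norm_num) (by norm_num) (by norm_num)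
      (by norm_num) (by norm_num) hd hsd 10 5 5 5 (ord_eq (by norm_num) (by decide) (by decide)) ho
      (by decide) (by decide) (by norm_num) (by norm_num)
      (by rintro ⟨t, ht, h⟩; omega) g
  · exact absurd rfl h
  · exact psp_not_adj (by norm_num) hF (by norm_num) (by norm_num) h31 hs (by norm_num) (by norm_num) (by norm_num)
      (by norm_num) (by norm_num) hd hsd 8 5 4 5 (ord_eq (by norm_num) (by decide) (by decide)) ho
      (by decide) (by decide) (by norm_num) (by norm_num)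
      (by rintro ⟨t, ht, h⟩; omega) g
  · exact absurd rfl hne

theorem psp_eight_orders [Fintype F] (hF : Fintype.card F = 2) {s : ℕ} (hs : s.Prime)
    (hsd : s ∣ Nat.card (Cfsg.PSp 4 F)) (hne : s ≠ 17) (g : Cfsg.PSp 4 F) : orderOf g ≠ 17 * s := by
  have hcard := card_psp_eight hF
  have h17 : Nat.Prime 17 := by norm_num
  have hd : 17 ∣ Nat.card (Cfsg.PSp 4 F) := by rw [hcard]; norm_num
  have ho : orderOf ((2 : ℕ) : ZMod 17) = 8 := ord_eq (by norm_num) (by decide) (by decide)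
  have hsd' := hsd
  rw [hcard] at hsd'
  rcases small_primes hs hsd' with ⟨rfl, -⟩ | ⟨rfl, -⟩ | ⟨rfl, -⟩ | ⟨rfl, -⟩ | ⟨rfl, h⟩ | ⟨rfl, h⟩ | ⟨rfl, h⟩ | ⟨rfl, h⟩
  · exact psp_not_adj_char (by norm_num) hF (by norm_num) (by norm_num) h17 (by norm_num) (by norm_num) hd 8 4 ho
      (by decide) (by norm_num) g
  · exact psp_not_adj (by norm_num) hF (by norm_num) (by norm_num) h17 hs (by norm_num) (by norm_num) (by norm_num)
      (by norm_num) (by norm_num) hd hsd 2 8 1 4 (ord_eq (by norm_num) (by decide) (by decide)) ho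
      (by decide) (by decide) (by norm_num) (by norm_num)
      (by rintro ⟨t, ⟨c, rfl⟩, h⟩; omega) g
  · exact psp_not_adj (by norm_num) hF (by norm_num) (by norm_num) h17 hs (by norm_num) (by norm_num) (by norm_num)
      (by norm_num) (by norm_num) hd hsd 4 8 2 4 (ord_eq (by norm_num) (by decide) (by decide)) ho
      (by decide) (by decide) (by norm_num) (by norm_num)
      (by rintro ⟨t, ⟨c, rfl⟩, h⟩; omega) g
  · exact psp_not_adj (by norm_num) hF (by norm_num) (by norm_num) h17 hs (by norm_num) (by norm_num) (by norm_num)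
      (by norm_num) (by norm_num) hd hsd 3 8 3 4 (ord_eq (by norm_num) (by decide) (by decide)) ho
      (by decide) (by decide) (by norm_num) (by norm_num)
      (by rintro ⟨t, ht, h⟩; omega) g
  · exact absurd rfl h
  · exact absurd rfl h
  · exact absurd rfl hne
  · exact absurd rfl h

theorem omega10plus_selfcent [Fintype F] (hF : Fintype.card F = 2) :
    ∃ R : Subgroup (Cfsg.POmega F (Cfsg.quadFormPlus 5 F)), Nat.card R = 31 ∧
      Subgroup.centralizer (R : Set (Cfsg.POmega F (Cfsg.quadFormPlus 5 F))) = R := by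
  have h2 := two_eq_zero_of_card hF
  have hord := Cfsg.Agent.S0293.result (F := F) hF 5 (by norm_num)
  have hdim : finrank F (Fin 5 ⊕ Fin 5 → F) = 2 * 5 := by simp
  have hnd := quadPlus_nondegenerate (m := 5) (F := F)
  have hs := quadPlus_sing (F := F) (n := 5) (by omega)
  rw [← coe_quadPlus] at hord ⊢
  have hcard : Nat.card (POmega F (⇑(quadPlus 5 F))) =
      2 ^ 20 * 3 ^ 5 * 5 ^ 2 * 7 ^ 1 * 11 ^ 0 * 13 ^ 0 * 17 ^ 1 * 31 ^ 1 := by
    rw [show Nat.gcd 4 (2 ^ 5 - 1) = 1 by norm_num] at hord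
    simp only [Nat.reduceSub, Finset.prod_range_succ, Finset.prod_range_zero] at hord
    norm_num at hord ⊢
    omega
  haveI : Finite (POmega F (⇑(quadPlus 5 F))) := Nat.finite_of_card_ne_zero (by rw [hcard]; norm_num)
  refine selfcent_of_orders (by norm_num) (by rw [hcard]; norm_num) (by rw [hcard]; norm_num) ?_
  intro s hs' hsd hne g hg
  obtain ⟨g', hg'⟩ := exists_psp_of_pomega h2 _ hnd hdim (by norm_num) hs g
  refine psp_ten_orders hF hs' (hsd.trans ?_) hne g' (hg'.trans hg)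
  rw [hcard, card_psp_ten hF]
  norm_num

theorem omega8minus_selfcent [Fintype F] (hF : Fintype.card F = 2) (a b : F)
    (hab : ∀ z₁ z₂ : F, z₁ ^ 2 + a * z₁ * z₂ + b * z₂ ^ 2 = 0 → z₁ = 0 ∧ z₂ = 0) :
    ∃ R : Subgroup (Cfsg.POmega F (Cfsg.quadFormMinus 3 F a b)), Nat.card R = 17 ∧
      Subgroup.centralizer (R : Set (Cfsg.POmega F (Cfsg.quadFormMinus 3 F a b))) = R := by
  have h2 := two_eq_zero_of_card hF
  have hord := Cfsg.Agent.S0294.result (F := F) hF 4 (by norm_num) a b hab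
  have hdim : finrank F ((Fin 3 ⊕ Fin 3) ⊕ Fin 2 → F) = 2 * 4 := by simp
  have hnd := quadMinus_nondegenerate (m := 3) (F := F) hab
  have hs := quadMinus_sing (F := F) (n := 3) (by omega) a b
  rw [show 4 - 1 = 3 by norm_num] at hord
  rw [← coe_quadMinus] at hord ⊢
  have hcard : Nat.card (POmega F (⇑(quadMinus 3 F a b))) =
      2 ^ 12 * 3 ^ 4 * 5 ^ 1 * 7 ^ 1 * 11 ^ 0 * 13 ^ 0 * 17 ^ 1 * 31 ^ 0 := by
    rw [show Nat.gcd 4 (2 ^ 4 + 1) = 1 by norm_num] at hord
    simp only [Finset.prod_range_succ, Finset.prod_range_zero] at hord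
    norm_num at hord ⊢
    omega
  haveI : Finite (POmega F (⇑(quadMinus 3 F a b))) := Nat.finite_of_card_ne_zero (by rw [hcard]; norm_num)
  refine selfcent_of_orders (by norm_num) (by rw [hcard]; norm_num) (by rw [hcard]; norm_num) ?_
  intro s hs' hsd hne g hg
  obtain ⟨g', hg'⟩ := exists_psp_of_pomega h2 _ hnd hdim (by norm_num) hs g
  refine psp_eight_orders hF hs' (hsd.trans ?_) hne g' (hg'.trans hg)
  rw [hcard, card_psp_eight hF]
  norm_num

/-- `PSp_6(2)` has no element of order 21 -/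
theorem psp_six_two_ne [Fintype F] (hF : Fintype.card F = 2) (g : Cfsg.PSp 3 F) : orderOf g ≠ 7 * 3 := by
  have hcard : Nat.card (Cfsg.PSp 3 F) = 2 ^ 9 * 3 ^ 4 * 5 ^ 1 * 7 ^ 1 * 11 ^ 0 * 13 ^ 0 * 17 ^ 0 * 31 ^ 0 := by
    have h := card_psp hF (n := 3) (by norm_num)
    rw [show Nat.gcd 2 (2 - 1) = 1 by norm_num] at h
    simp only [Finset.prod_range_succ, Finset.prod_range_zero] at h
    norm_num at h ⊢
    omega
  have ho : orderOf ((2 : ℕ) : ZMod 7) = 3 := ord_eq (by norm_num) (by decide) (by decide)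
  exact psp_not_adj (by norm_num) hF (by norm_num) (by norm_num) (by norm_num) (by norm_num) (by norm_num)
      (by norm_num) (by norm_num) (by norm_num) (by norm_num) (by rw [hcard]; norm_num) (by rw [hcard]; norm_num)
      2 3 1 3 (ord_eq (by norm_num) (by decide) (by decide)) ho
      (by decide) (by decide) (by norm_num) (by norm_num)
      (by rintro ⟨t, ht, h⟩; omega) g

/-- the orthogonal group of plus type in dimension eight over `F_2` has no element of order 21 -/
theorem pomega_eight_ne [Fintype F] (hF : Fintype.card F = 2) {ι : Type} [Fintype ι] [DecidableEq ι]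
    (Q : QuadraticForm F (ι → F)) (hQ : (QuadraticMap.polarBilin Q).Nondegenerate)
    (hdim : finrank F (ι → F) = 2 * 4) (hsing : ∃ u : ι → F, u ≠ 0 ∧ Q u = 0) (hsign : HasSign (⇑Q) 4 1)
    (g : POmega F (⇑Q)) : orderOf g ≠ 7 * 3 := by
  intro hg
  classical
  have h2 := two_eq_zero_of_card hF
  have hqe : Nat.card F = 2 := by rw [Nat.card_eq_fintype_card, hF]
  have hι : Fintype.card ι = 2 * 4 := by rw [← hdim]; simp
  obtain ⟨S, hS⟩ := exists_lin h2 _ hQ (by omega) hsing g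
  rw [hg] at hS
  obtain ⟨X, hXdef⟩ : ∃ X, X = S ^ 3 := ⟨_, rfl⟩
  obtain ⟨Y, hYdef⟩ : ∃ Y, Y = S ^ 7 := ⟨_, rfl⟩
  obtain ⟨x, hXx⟩ : ∃ x : (ι → F) →ₗ[F] (ι → F), ∀ v, (X : (ι → F) ≃ₗ[F] (ι → F)) v = x v :=
    ⟨((X : (ι → F) ≃ₗ[F] (ι → F)) : (ι → F) →ₗ[F] (ι → F)), fun v => rfl⟩
  obtain ⟨y, hYy⟩ : ∃ x : (ι → F) →ₗ[F] (ι → F), ∀ v, (Y : (ι → F) ≃ₗ[F] (ι → F)) v = x v :=
    ⟨((Y : (ι → F) ≃ₗ[F] (ι → F)) : (ι → F) →ₗ[F] (ι → F)), fun v => rfl⟩
  have hX7 : X ^ 7 = 1 := by
    rw [hXdef, ← pow_mul]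
    exact (hS (3 * 7)).2 (by norm_num)
  have hY3 : Y ^ 3 = 1 := by
    rw [hYdef, ← pow_mul]
    exact (hS (7 * 3)).2 (by norm_num)
  have hX1 : x ≠ 1 := by
    intro h
    have h1 : X ^ 1 = 1 := (og_pow_eq_one_iff X x hXx 1).2 (by rw [pow_one, h])
    rw [hXdef, ← pow_mul] at h1
    have := (hS _).1 h1
    norm_num at this
  have hY1 : y ≠ 1 := by
    intro h
    have h1 : Y ^ 1 = 1 := (og_pow_eq_one_iff Y y hYy 1).2 (by rw [pow_one, h])
    rw [hYdef, ← pow_mul] at h1
    have := (hS _).1 h1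
    norm_num at this
  have hx : x ^ 7 = 1 := (og_pow_eq_one_iff X x hXx 7).1 hX7
  have hy : y ^ 3 = 1 := (og_pow_eq_one_iff Y y hYy 3).1 hY3
  have hXY : X * Y = Y * X := by rw [hXdef, hYdef, ← pow_add, ← pow_add]
  have hxy : ∀ v, x (y v) = y (x v) := fun v => by
    rw [← hYy, ← hXx, ← hXx, ← hYy]
    exact congrArg (fun Z : OG Q => (Z : (ι → F) ≃ₗ[F] (ι → F)) v) hXY
  have hxQ : ∀ v, Q (x v) = Q v := fun v => by rw [← hXx]; exact X.2 v
  have hyQ : ∀ v, Q (y v) = Q v := fun v => by rw [← hYy]; exact Y.2 v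
  have hnd : ND Q := fun u hu => hQ.1 u hu
  have hB : ∀ v w, QuadraticMap.polarBilin Q (x v) (x w) = QuadraticMap.polarBilin Q v w :=
    fun v w => polar_isom Q x hxQ v w
  have hBy : ∀ v w, QuadraticMap.polarBilin Q (y v) (y w) = QuadraticMap.polarBilin Q v w :=
    fun v w => polar_isom Q y hyQ v w
  have halt : ∀ v, QuadraticMap.polarBilin Q v v = 0 := polar_alt h2 Q
  have h7 : Nat.Prime 7 := by norm_num
  have h7F : ((7 : ℕ) : F) ≠ 0 := natCast_ne_zero_of_not_dvd h7 (by rw [hqe]; norm_num)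
  have h3F : ((3 : ℕ) : F) ≠ 0 := natCast_ne_zero_of_not_dvd Nat.prime_three (by rw [hqe]; norm_num)
  have hcompl := isCompl_fix h7F x hx
  have hsum := Submodule.finrank_add_eq_of_isCompl hcompl
  have hxM := (range_inv (x := x) (y := x) (fun v => rfl)).1
  have hyM := (range_inv hxy).1
  have hyC := (range_inv hxy).2
  have hkd := dvd_finrank_of_fpf_submodule h7 x hx _ hxM (fpf_range h7F x hx)
  rw [hqe, show orderOf ((2 : ℕ) : ZMod 7) = 3 from ord_eq (by norm_num) (by decide) (by decide)] at hkd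
  have hMnd := nondeg_range h7F (QuadraticMap.polarBilin Q) (fun u hu => hnd u hu) x hx hB
  have hM0 : LinearMap.range (x - 1) ≠ ⊥ := by
    intro h
    rw [LinearMap.range_eq_bot, sub_eq_zero] at h
    exact hX1 h
  have hMpos : 0 < finrank F (LinearMap.range (x - 1)) := Nat.pos_of_ne_zero fun h =>
    hM0 (Submodule.finrank_eq_zero.1 h)
  have hMalt : (LinearMap.BilinForm.restrict (QuadraticMap.polarBilin Q) (LinearMap.range (x - 1))).IsAlt :=
    fun v => halt v
  have hMev : Even (finrank F (LinearMap.range (x - 1))) :=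
    even_finrank_of_alt _ hMalt (fun u hu => hMnd u fun v => hu v)
  have hMdim : finrank F (LinearMap.range (x - 1)) = 2 * 3 := by
    obtain ⟨a, ha⟩ := hMev
    obtain ⟨b, hb⟩ := hkd
    omega
  have hCdim : finrank F (LinearMap.ker (x - 1)) = 2 := by omega
  -- `y = 1` on `M`
  have hyM1 : ∀ v ∈ LinearMap.range (x - 1), y v = v := by
    by_contra hcon
    have hy1 : y.restrict hyM ≠ 1 := fun h => hcon fun v hv => congrArg Subtype.val (LinearMap.congr_fun h ⟨v, hv⟩)
    have hx1 : x.restrict hxM ≠ 1 := by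
      intro h
      obtain ⟨m, hm, hm0⟩ := (Submodule.ne_bot_iff _).1 hM0
      exact hm0 (fpf_range h7F x hx m hm (congrArg Subtype.val (LinearMap.congr_fun h ⟨m, hm⟩)))
    haveI : Fact (Nat.Prime 7) := ⟨h7⟩
    haveI : Fact (Nat.Prime 3) := ⟨Nat.prime_three⟩
    have hox : orderOf (x.restrict hxM) = 7 := orderOf_eq_prime (restrict_pow_eq_one hxM hx) hx1
    have hoy : orderOf (y.restrict hyM) = 3 := orderOf_eq_prime (restrict_pow_eq_one hyM hy) hy1
    have hcomm : Commute (x.restrict hxM) (y.restrict hyM) := LinearMap.ext fun v => Subtype.ext (hxy v)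
    have hoT : orderOf (x.restrict hxM * y.restrict hyM) = 7 * 3 := by
      rw [hcomm.orderOf_mul_eq_mul_orderOf_of_coprime (by rw [hox, hoy]; norm_num), hox, hoy]
    obtain ⟨g', hg'⟩ := exists_psp (m := 3) (by norm_num)
      (LinearMap.BilinForm.restrict (QuadraticMap.polarBilin Q) (LinearMap.range (x - 1))) hMalt
      (fun u hu => hMnd u fun v => hu v) hMdim (x.restrict hxM * y.restrict hyM)
      (fun v w => (hB _ _).trans (hBy _ _)) (7 * 3) (fun j => by
        have h1 : (1 : End F (LinearMap.range (x - 1))) = -1 := by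
          apply LinearMap.ext
          intro v
          rw [LinearMap.neg_apply, Module.End.one_apply, eq_neg_iff_add_eq_zero, ← two_smul F, h2, zero_smul]
        rw [← h1, or_self, ← hoT, orderOf_dvd_iff_pow_eq_one])
    exact psp_six_two_ne hF g' hg'
  -- `y` fixes a nonzero vector of `C`
  have hN : Nat.card {v : ι → F // Q v = 1} = 120 := by
    have h := card_of_hasSign' (F := F) hdim hsign (one_ne_zero (α := F))
    rw [hqe] at h
    have h' : (2 : ℤ) * (Nat.card {v : ι → F // Q v = 1} : ℤ) = 240 := by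
      rw [show ((2 : ℕ) : ℤ) = 2 from rfl] at h
      rw [h]
      norm_num
    omega
  have hmod := prime_dvd_moved Q h7 X hX7
  rw [hN] at hmod
  have hCcard : Nat.card (LinearMap.ker (x - 1)) = 4 := by
    have := Module.natCard_eq_pow_finrank (K := F) (V := LinearMap.ker (x - 1))
    rw [hqe, hCdim] at this
    exact this
  have hmemC : ∀ v, v ∈ LinearMap.ker (x - 1) ↔ x v = v := fun v => by
    rw [LinearMap.mem_ker, LinearMap.sub_apply, Module.End.one_apply, sub_eq_zero]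
  have hle : Nat.card {v : ι → F // Q v = 1 ∧ (X : (ι → F) ≃ₗ[F] (ι → F)) v = v} ≤ 4 := by
    refine le_trans ?_ hCcard.le
    refine Nat.card_le_card_of_injective (fun v => (⟨v.1, (hmemC _).2 (by rw [← hXx]; exact v.2.2)⟩ : LinearMap.ker (x - 1)))
      (fun a b h => Subtype.ext (congrArg (fun z : LinearMap.ker (x - 1) => z.1) h))
  have hone : Nat.card {v : ι → F // Q v = 1 ∧ (X : (ι → F) ≃ₗ[F] (ι → F)) v = v} = 1 := by
    have := hmod
    unfold Nat.ModEq at this
    omega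
  obtain ⟨hsub, ⟨v1⟩⟩ := Nat.card_eq_one_iff_unique.1 hone
  have hyv1 : y v1.1 = v1.1 := by
    have h1 : Q (y v1.1) = 1 ∧ (X : (ι → F) ≃ₗ[F] (ι → F)) (y v1.1) = y v1.1 := by
      refine ⟨by rw [hyQ, v1.2.1], ?_⟩
      rw [hXx, hxy, ← hXx, v1.2.2]
    exact congrArg Subtype.val (hsub.elim ⟨y v1.1, h1⟩ v1)
  have hv10 : v1.1 ≠ 0 := by
    intro h
    have := v1.2.1
    rw [h, QuadraticMap.map_zero] at this
    exact zero_ne_one this
  -- `y = 1` on `C`
  set z := y.restrict hyC with hz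
  have hz3 : z ^ 3 = 1 := restrict_pow_eq_one hyC hy
  have hzM := (range_inv (x := z) (y := z) (fun v => rfl)).1
  have hzk := dvd_finrank_of_fpf_submodule Nat.prime_three z hz3 _ hzM (fpf_range h3F z hz3)
  rw [hqe, show orderOf ((2 : ℕ) : ZMod 3) = 2 from ord_eq (by norm_num) (by decide) (by decide)] at hzk
  have hzsum := LinearMap.finrank_range_add_finrank_ker (z - 1)
  have hzker : 0 < finrank F (LinearMap.ker (z - 1)) := by
    refine Nat.pos_of_ne_zero fun h => ?_
    rw [Submodule.finrank_eq_zero] at h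
    have h3 : (⟨v1.1, (hmemC _).2 (by rw [← hXx]; exact v1.2.2)⟩ : LinearMap.ker (x - 1)) ∈ LinearMap.ker (z - 1) := by
      rw [LinearMap.mem_ker, LinearMap.sub_apply, Module.End.one_apply, sub_eq_zero]
      exact Subtype.ext hyv1
    rw [h, Submodule.mem_bot] at h3
    exact hv10 (congrArg Subtype.val h3)
  have hz1 : z = 1 := by
    have h3 : finrank F (LinearMap.range (z - 1)) = 0 := by
      obtain ⟨c, hc⟩ := hzk
      omega
    rw [Submodule.finrank_eq_zero, LinearMap.range_eq_bot] at h3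
    exact eq_of_sub_eq_zero h3
  -- conclusion
  apply hY1
  apply LinearMap.ext
  intro v
  obtain ⟨a, ha, b, hb, rfl⟩ := Submodule.mem_sup.1
    (show v ∈ LinearMap.ker (x - 1) ⊔ LinearMap.range (x - 1) by rw [hcompl.sup_eq_top]; trivial)
  rw [map_add, hyM1 b hb, Module.End.one_apply]
  have : y a = a := congrArg Subtype.val (LinearMap.congr_fun hz1 ⟨a, ha⟩)
  rw [this]

theorem omega8plus_selfcent [Fintype F] (hF : Fintype.card F = 2) :
    ∃ R : Subgroup (Cfsg.POmega F (Cfsg.quadFormPlus 4 F)), Nat.card R = 7 ∧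
      Subgroup.centralizer (R : Set (Cfsg.POmega F (Cfsg.quadFormPlus 4 F))) = R := by
  have h2 := two_eq_zero_of_card hF
  have hqe : Nat.card F = 2 := by rw [Nat.card_eq_fintype_card, hF]
  have hord := Cfsg.Agent.S0293.result (F := F) hF 4 (by norm_num)
  have hdim : finrank F (Fin 4 ⊕ Fin 4 → F) = 2 * 4 := by simp
  have hnd := quadPlus_nondegenerate (m := 4) (F := F)
  have hs := quadPlus_sing (F := F) (n := 4) (by omega)
  rw [← coe_quadPlus] at hord ⊢
  have hcard : Nat.card (POmega F (⇑(quadPlus 4 F))) =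
      2 ^ 12 * 3 ^ 5 * 5 ^ 2 * 7 ^ 1 * 11 ^ 0 * 13 ^ 0 * 17 ^ 0 * 31 ^ 0 := by
    rw [show Nat.gcd 4 (2 ^ 4 - 1) = 1 by norm_num] at hord
    simp only [Nat.reduceSub, Finset.prod_range_succ, Finset.prod_range_zero] at hord
    norm_num at hord ⊢
    omega
  haveI : Finite (POmega F (⇑(quadPlus 4 F))) := Nat.finite_of_card_ne_zero (by rw [hcard]; norm_num)
  have h7 : Nat.Prime 7 := by norm_num
  have h7F : ((7 : ℕ) : F) ≠ 0 := natCast_ne_zero_of_not_dvd h7 (by rw [hqe]; norm_num)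
  have ho : orderOf ((2 : ℕ) : ZMod 7) = 3 := ord_eq (by norm_num) (by decide) (by decide)
  refine selfcent_of_orders (by norm_num) (by rw [hcard]; norm_num) (by rw [hcard]; norm_num) ?_
  intro s hs' hsd hne g
  rw [hcard] at hsd
  rcases small_primes hs' hsd with ⟨rfl, -⟩ | ⟨rfl, -⟩ | ⟨rfl, -⟩ | ⟨rfl, -⟩ | ⟨rfl, h⟩ | ⟨rfl, h⟩ | ⟨rfl, h⟩ | ⟨rfl, h⟩
  · rw [mul_comm]
    exact gen_partial_even h2 (quadPlus 4 F) hnd hdim hs h7 (by norm_num) h7F (by norm_num) (by rw [hqe]; exact ho)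
      (Or.inl ⟨by decide, rfl⟩) g
  · exact pomega_eight_ne hF _ hnd hdim hs (by rw [coe_quadPlus]; exact hasSign_quadFormPlus 4) g
  · intro hg
    obtain ⟨g', hg'⟩ := exists_psp_of_pomega h2 _ hnd hdim (by norm_num) hs g
    refine psp_not_adj (by norm_num) hF (n := 4) (by norm_num) (by norm_num) h7 hs' (by norm_num) (by norm_num)
      (by norm_num) (by norm_num) (by norm_num) (by rw [card_psp_eight hF]; norm_num)
      (by rw [card_psp_eight hF]; norm_num) 4 3 2 3 (ord_eq (by norm_num) (by decide) (by decide)) ho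
      (by decide) (by decide) (by norm_num) (by norm_num)
      (by rintro ⟨t, ht, h⟩; omega) g' (hg'.trans hg)
  · exact absurd rfl hne
  all_goals exact absurd rfl ‹_›

/-- **`Ω⁺_8(2)` (`7`), `Ω⁺_{10}(2)` (`31`), `Ω⁻_8(2)` (`17`)** -/
theorem omega_selfcent (F : Type) [Field F] [Fintype F] (hF : Fintype.card F = 2) :
    (∃ R : Subgroup (Cfsg.POmega F (Cfsg.quadFormPlus 4 F)), Nat.card R = 7 ∧
      Subgroup.centralizer (R : Set (Cfsg.POmega F (Cfsg.quadFormPlus 4 F))) = R) ∧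
    (∃ R : Subgroup (Cfsg.POmega F (Cfsg.quadFormPlus 5 F)), Nat.card R = 31 ∧
      Subgroup.centralizer (R : Set (Cfsg.POmega F (Cfsg.quadFormPlus 5 F))) = R) ∧
    (∀ a b : F, (∀ z₁ z₂ : F, z₁ ^ 2 + a * z₁ * z₂ + b * z₂ ^ 2 = 0 → z₁ = 0 ∧ z₂ = 0) →
      ∃ R : Subgroup (Cfsg.POmega F (Cfsg.quadFormMinus 3 F a b)), Nat.card R = 17 ∧
        Subgroup.centralizer (R : Set (Cfsg.POmega F (Cfsg.quadFormMinus 3 F a b))) = R) :=
  ⟨omega8plus_selfcent hF, omega10plus_selfcent hF, fun a b hab => omega8minus_selfcent hF a b hab⟩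

end Cfsg.Agent.H732.SelfCent
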