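/-
Generic words in `⟨u(c), l(cα)⟩` (helper732, section 63): for an infinite field `k` the group generated by
`u(c)`, `l(cα)`, `c ∈ k`, contains a matrix with bottom row `(0, y)` for each `0 ≠ y ∈ k(α)`.
-/
import Mathlib

set_option autoImplicit false

namespace Cfsg.Agent.H732

open Polynomial

section DD

variable {A : Type*} [CommRing A]

/-- first reduction step -/
noncomputable def stepY (n : ℕ) (P Y : A[X]) : A[X] := C (P.coeff n) * Y - C (Y.coeff (n + 1)) * (X * P)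

/-- second reduction step -/
noncomputable def stepP (n : ℕ) (P Y : A[X]) : A[X] := C (Y.coeff n) * P - C (P.coeff n) * Y

/-- The product of the leading coefficients met by the cross-multiplied reduction algorithm. -/
noncomputable def DD : ℕ → A[X] → A[X] → A
  | 0, _, _ => 1
  | n + 1, P, Y => P.coeff n * (stepY n P Y).coeff n * DD n (stepP n P (stepY n P Y)) (stepY n P Y)

theorem stepY_map {B : Type*} [CommRing B] (f : A →+* B) (n : ℕ) (P Y : A[X]) :
    stepY n (P.map f) (Y.map f) = (stepY n P Y).map f := by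
  simp [stepY]

theorem stepP_map {B : Type*} [CommRing B] (f : A →+* B) (n : ℕ) (P Y : A[X]) :
    stepP n (P.map f) (Y.map f) = (stepP n P Y).map f := by
  simp [stepP]

theorem DD_map {B : Type*} [CommRing B] (f : A →+* B) (n : ℕ) (P Y : A[X]) :
    DD n (P.map f) (Y.map f) = f (DD n P Y) := by
  induction n generalizing P Y with
  | zero => simp [DD]
  | succ n ih =>
    simp only [DD]
    rw [stepY_map, stepP_map, ih, coeff_map, coeff_map, map_mul, map_mul]

theorem DD_scale (n : ℕ) (P Y : A[X]) (s t : A) :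
    ∃ i j : ℕ, DD n (C s * P) (C t * Y) = s ^ i * t ^ j * DD n P Y := by
  induction n generalizing P Y s t with
  | zero => exact ⟨0, 0, by simp [DD]⟩
  | succ n ih =>
    have e1 : stepY n (C s * P) (C t * Y) = C (s * t) * stepY n P Y := by
      simp only [stepY, coeff_C_mul, map_mul]
      ring
    have e2 : stepP n (C s * P) (C (s * t) * stepY n P Y) = C (s ^ 2 * t) * stepP n P (stepY n P Y) := by
      rw [stepP, stepP, coeff_C_mul, coeff_C_mul]
      simp only [map_mul, map_pow]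
      ring
    obtain ⟨i, j, hij⟩ := ih (stepP n P (stepY n P Y)) (stepY n P Y) (s ^ 2 * t) (s * t)
    refine ⟨2 + 2 * i + j, 1 + i + j, ?_⟩
    simp only [DD]
    rw [e1, e2, hij]
    simp only [coeff_C_mul]
    ring

end DD

section field

variable {k : Type*} [Field k]

theorem DD_scale_ne {n : ℕ} {P Y : k[X]} {s t : k} (h : DD n (C s * P) (C t * Y) ≠ 0) : DD n P Y ≠ 0 := by
  obtain ⟨i, j, hij⟩ := DD_scale n P Y s t
  intro h0
  apply h
  rw [hij, h0, mul_zero]

theorem DD_scale_ne' {n : ℕ} {P Y : k[X]} {s t : k} (hs : s ≠ 0) (ht : t ≠ 0) (h : DD n P Y ≠ 0) :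
    DD n (C s * P) (C t * Y) ≠ 0 := by
  obtain ⟨i, j, hij⟩ := DD_scale n P Y s t
  rw [hij]
  exact mul_ne_zero (mul_ne_zero (pow_ne_zero _ hs) (pow_ne_zero _ ht)) h

/-- A generic pair is reduced to `(0, 1)`: invariants under the two kinds of moves. -/
theorem generic_mem {K : Type*} [Field K] [Algebra k K] (α : K) {R : K → K → Prop} (h0 : R 0 1)
    (hu : ∀ x₁ x₂ (c : k), R x₁ x₂ → R x₁ (x₂ + algebraMap k K c * x₁))
    (hl : ∀ x₁ x₂ (c : k), R x₁ x₂ → R (x₁ + algebraMap k K c * α * x₂) x₂) :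
    ∀ (n : ℕ) (P Y : k[X]), (∀ j, n ≤ j → P.coeff j = 0) → (∀ j, n < j → Y.coeff j = 0) → Y.coeff 0 = 1 →
      DD n P Y ≠ 0 → R (α * aeval α P) (aeval α Y) := by
  intro n
  induction n with
  | zero =>
    intro P Y hP hY hY0 _
    have e1 : P = 0 := by
      ext j; rw [hP j (Nat.zero_le j), coeff_zero]
    have e2 : Y = 1 := by
      ext j
      by_cases hj : j = 0
      · subst hj; rw [hY0]; simp
      · rw [hY j (Nat.pos_of_ne_zero hj), coeff_one]; simp [hj]
    rw [e1, e2]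
    simpa using h0
  | succ n ih =>
    intro P Y hP hY hY0 hD
    simp only [DD] at hD
    have hp : P.coeff n ≠ 0 := fun h => hD (by rw [h]; ring)
    obtain ⟨p, hpp⟩ : ∃ p, p = P.coeff n := ⟨_, rfl⟩
    obtain ⟨y, hyy⟩ : ∃ y, y = Y.coeff (n + 1) := ⟨_, rfl⟩
    obtain ⟨Yn, hYn⟩ : ∃ Yn, Yn = Y - C (y / p) * (X * P) := ⟨_, rfl⟩
    rw [← hpp] at hp
    have e1 : stepY n P Y = C p * Yn := by
      rw [stepY, ← hpp, ← hyy, hYn, mul_sub, ← mul_assoc (C p) (C (y / p)), ← C_mul, mul_div_cancel₀ _ hp]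
    obtain ⟨y', hy'⟩ : ∃ y', y' = Yn.coeff n := ⟨_, rfl⟩
    have e2 : (stepY n P Y).coeff n = p * y' := by rw [e1, coeff_C_mul, hy']
    have hy'0 : y' ≠ 0 := by
      intro h
      apply hD
      rw [e2, h]; ring
    obtain ⟨Pn, hPn⟩ : ∃ Pn, Pn = P - C (p / y') * Yn := ⟨_, rfl⟩
    have e3 : stepP n P (stepY n P Y) = C (p * y') * Pn := by
      have e31 : p * y' * (p / y') = p * p := by field_simp
      rw [stepP, e2, ← hpp, e1, hPn, mul_sub, ← mul_assoc (C (p * y')) (C (p / y')), ← C_mul, e31, C_mul, C_mul,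
        mul_assoc (C p) (C p)]
    have hD' : DD n Pn Yn ≠ 0 := by
      have h1 : DD n (C (p * y') * Pn) (C p * Yn) ≠ 0 := by
        rw [← e3, ← e1]
        exact right_ne_zero_of_mul hD
      exact DD_scale_ne h1
    have hXP : ∀ j, (X * P).coeff (j + 1) = P.coeff j := fun j => coeff_X_mul P j
    have hYnc : ∀ j, Yn.coeff (j + 1) = Y.coeff (j + 1) - (y / p) * P.coeff j := by
      intro j
      rw [hYn, coeff_sub, coeff_C_mul, hXP]
    have hYb : ∀ j, n < j → Yn.coeff j = 0 := by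
      intro j hj
      obtain ⟨i, rfl⟩ := Nat.exists_eq_succ_of_ne_zero (Nat.ne_of_gt (lt_of_le_of_lt (Nat.zero_le n) hj))
      rw [Nat.succ_eq_add_one, hYnc]
      rcases Nat.eq_or_lt_of_le (Nat.lt_succ_iff.1 hj) with h1 | h1
      · subst h1
        rw [← hyy, ← hpp, div_mul_cancel₀ _ hp, sub_self]
      · rw [hY (i + 1) (by omega), hP i (by omega), mul_zero, sub_zero]
    have hPb : ∀ j, n ≤ j → Pn.coeff j = 0 := by
      intro j hj
      rw [hPn, coeff_sub, coeff_C_mul]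
      rcases Nat.eq_or_lt_of_le hj with h1 | h1
      · subst h1
        rw [← hpp, ← hy', div_mul_cancel₀ _ hy'0, sub_self]
      · rw [hP j (by omega), hYb j h1, mul_zero, sub_zero]
    have hY0' : Yn.coeff 0 = 1 := by
      rw [hYn, coeff_sub, coeff_C_mul, hY0, coeff_X_mul_zero, mul_zero, sub_zero]
    have key := ih Pn Yn hPb hYb hY0' hD'
    -- undo the two moves
    have k1 := hl _ _ (p / y') key
    have k2 : α * aeval α Pn + algebraMap k K (p / y') * α * aeval α Yn = α * aeval α P := by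
      have : P = Pn + C (p / y') * Yn := by rw [hPn]; ring
      conv_rhs => rw [this]
      rw [map_add, map_mul, aeval_C]; ring
    rw [k2] at k1
    have k3 := hu _ _ (y / p) k1
    have k4 : aeval α Yn + algebraMap k K (y / p) * (α * aeval α P) = aeval α Y := by
      have : Y = Yn + C (y / p) * (X * P) := by rw [hYn]; ring
      conv_rhs => rw [this]
      rw [map_add, map_mul, map_mul, aeval_C, aeval_X]
    rwa [k4] at k3

/-- There is a generic pair. -/
theorem exists_generic (n : ℕ) : ∃ P Y : k[X], (∀ j, n ≤ j → P.coeff j = 0) ∧ (∀ j, n < j → Y.coeff j = 0) ∧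
    Y.coeff 0 = 1 ∧ Y.coeff n ≠ 0 ∧ DD n P Y ≠ 0 := by
  induction n with
  | zero =>
    refine ⟨0, 1, fun j _ => coeff_zero j, ?_, ?_, ?_, ?_⟩
    · intro j hj
      rw [coeff_one, if_neg (by omega)]
    · simp
    · simp
    · simp [DD]
  | succ n ih =>
    obtain ⟨P, Y, hP, hY, hY0, hYn, hD⟩ := ih
    obtain ⟨y, hy⟩ : ∃ y, y = Y.coeff n := ⟨_, rfl⟩
    rw [← hy] at hYn
    obtain ⟨P1, hP1⟩ : ∃ P1, P1 = P + Y := ⟨_, rfl⟩
    obtain ⟨Y1, hY1⟩ : ∃ Y1, Y1 = Y + X * P1 := ⟨_, rfl⟩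
    have c1 : P1.coeff n = y := by rw [hP1, coeff_add, hP n le_rfl, zero_add, hy]
    have c2 : ∀ j, Y1.coeff (j + 1) = Y.coeff (j + 1) + P1.coeff j := by
      intro j; rw [hY1, coeff_add, coeff_X_mul]
    have c3 : ∀ j, n < j → P1.coeff j = 0 := by
      intro j hj; rw [hP1, coeff_add, hP j hj.le, hY j hj, add_zero]
    have c4 : Y1.coeff (n + 1) = y := by rw [c2, hY (n + 1) (by omega), zero_add, c1]
    have e1 : stepY n P1 Y1 = C y * Y := by
      rw [stepY, c1, c4, hY1]; ring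
    have e2 : stepP n P1 (C y * Y) = C (y * y) * P := by
      rw [stepP, c1, coeff_C_mul, ← hy, hP1, C_mul]; ring
    refine ⟨P1, Y1, fun j hj => c3 j (by omega), ?_, ?_, ?_, ?_⟩
    · intro j hj
      obtain ⟨i, rfl⟩ := Nat.exists_eq_succ_of_ne_zero (Nat.ne_of_gt (lt_of_le_of_lt (Nat.zero_le _) hj))
      rw [Nat.succ_eq_add_one, c2, hY (i + 1) (by omega), c3 i (by omega), add_zero]
    · rw [hY1, coeff_add, coeff_X_mul_zero, hY0, add_zero]
    · rw [c4]; exact hYn
    · simp only [DD]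
      rw [e1, e2, c1, coeff_C_mul, ← hy]
      exact mul_ne_zero (mul_ne_zero hYn (mul_ne_zero hYn hYn)) (DD_scale_ne' (mul_ne_zero hYn hYn) hYn hD)

/-- Along a line `DD` is a polynomial function. -/
theorem DD_line (n : ℕ) (P Q Y Z : k[X]) : ∃ F : k[X], ∀ c : k, F.eval c = DD n (P + C c * Q) (Y + C c * Z) := by
  refine ⟨DD n (P.map C + C X * Q.map C) (Y.map C + C X * Z.map C), fun c => ?_⟩
  have h1 : ∀ P Q : k[X], (P.map C + C X * Q.map C : k[X][X]).map (evalRingHom c) = P + C c * Q := by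
    intro P Q
    rw [Polynomial.map_add, Polynomial.map_mul, Polynomial.map_map, Polynomial.map_map, Polynomial.map_C]
    have : (evalRingHom c).comp (C : k →+* k[X]) = RingHom.id k := by
      ext x; simp
    rw [this, Polynomial.map_id, Polynomial.map_id, coe_evalRingHom, eval_X]
  rw [← coe_evalRingHom, ← DD_map, h1, h1]

theorem exists_bounded {K : Type*} [Field K] [Algebra k K] {α : K} (hα : IsIntegral k α) {z : K}
    (hz : z ∈ IntermediateField.adjoin k ({α} : Set K)) :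
    ∃ P : k[X], (∀ j, (minpoly k α).natDegree ≤ j → P.coeff j = 0) ∧ aeval α P = z := by
  have h1 : z ∈ (IntermediateField.adjoin k ({α} : Set K)).toSubalgebra := hz
  rw [IntermediateField.adjoin_simple_toSubalgebra_of_isAlgebraic hα.isAlgebraic,
    Algebra.adjoin_singleton_eq_range_aeval] at h1
  obtain ⟨f, hf⟩ := h1
  refine ⟨f %ₘ minpoly k α, ?_, ?_⟩
  · intro j hj
    apply coeff_eq_zero_of_degree_lt
    refine lt_of_lt_of_le (degree_modByMonic_lt f (minpoly.monic hα)) ?_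
    exact (degree_le_natDegree).trans (by exact_mod_cast hj)
  · rw [minpoly.aeval_modByMonic_minpoly]
    exact hf

/-- The main statement on generic words. -/
theorem exists_pair {K : Type*} [Field K] [Algebra k K] [Infinite k] {α : K} (hα : IsIntegral k α) (hα0 : α ≠ 0)
    {R : K → K → Prop} (h0 : R 0 1)
    (hu : ∀ x₁ x₂ (c : k), R x₁ x₂ → R x₁ (x₂ + algebraMap k K c * x₁))
    (hl : ∀ x₁ x₂ (c : k), R x₁ x₂ → R (x₁ + algebraMap k K c * α * x₂) x₂)
    {y : K} (hy : y ∈ IntermediateField.adjoin k ({α} : Set K)) (hy0 : y ≠ 0) :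
    ∃ x₁ x₂, R x₁ x₂ ∧ R (y * x₁) (y * x₂) := by
  set L := IntermediateField.adjoin k ({α} : Set K) with hL
  have hαL : α ∈ L := IntermediateField.mem_adjoin_simple_self k α
  set n := (minpoly k α).natDegree with hn
  obtain ⟨P0, Y0, hP0, hY0, hY00, -, hD0⟩ := exists_generic (k := k) n
  have hPL : ∀ P : k[X], aeval α P ∈ L := by
    intro P
    have h1 : aeval α P ∈ Algebra.adjoin k {α} := Polynomial.aeval_mem_adjoin_singleton k α
    have h2 : Algebra.adjoin k ({α} : Set K) ≤ L.toSubalgebra := by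
      rw [Algebra.adjoin_le_iff]
      rintro x rfl
      exact hαL
    exact h2 h1
  -- representation of an arbitrary pair
  have hrep : ∀ x₁ ∈ L, ∀ x₂ ∈ L, ∃ P Y : k[X], (∀ j, n ≤ j → P.coeff j = 0) ∧ (∀ j, n < j → Y.coeff j = 0) ∧
      Y.coeff 0 = 1 ∧ α * aeval α P = x₁ ∧ aeval α Y = x₂ := by
    intro x₁ hx₁ x₂ hx₂
    obtain ⟨P, hP, hPx⟩ := exists_bounded hα (L.mul_mem (L.inv_mem hαL) hx₁)
    obtain ⟨Z, hZ, hZx⟩ := exists_bounded hα (L.mul_mem (L.inv_mem hαL) (L.sub_mem hx₂ L.one_mem))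
    refine ⟨P, 1 + X * Z, hP, ?_, ?_, ?_, ?_⟩
    · intro j hj
      obtain ⟨i, rfl⟩ := Nat.exists_eq_succ_of_ne_zero (Nat.ne_of_gt (lt_of_le_of_lt (Nat.zero_le _) hj))
      rw [Nat.succ_eq_add_one, coeff_add, coeff_X_mul, hZ i (by omega), coeff_one, if_neg (by omega), add_zero]
    · rw [coeff_add, coeff_X_mul_zero]; simp
    · rw [hPx, mul_inv_cancel_left₀ hα0]
    · rw [map_add, map_mul, aeval_X, hZx, mul_inv_cancel_left₀ hα0]; simp
  obtain ⟨P1, Y1, hP1, hY1, hY10, hP1x, hY1x⟩ := hrep (y⁻¹ * (α * aeval α P0))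
    (L.mul_mem (L.inv_mem hy) (L.mul_mem hαL (hPL P0))) (y⁻¹ * aeval α Y0) (L.mul_mem (L.inv_mem hy) (hPL Y0))
  obtain ⟨P2, Y2, hP2, hY2, hY20, hP2x, hY2x⟩ := hrep (y * (α * aeval α P0))
    (L.mul_mem hy (L.mul_mem hαL (hPL P0))) (y * aeval α Y0) (L.mul_mem hy (hPL Y0))
  obtain ⟨F, hF⟩ := DD_line n P0 (P1 - P0) Y0 (Y1 - Y0)
  obtain ⟨E, hE⟩ := DD_line n P2 (P0 - P2) Y2 (Y0 - Y2)
  have hF0 : F ≠ 0 := by
    rintro rfl
    have := hF 0
    rw [eval_zero, C_0, zero_mul, zero_mul, add_zero, add_zero] at this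
    exact hD0 this.symm
  have hE0 : E ≠ 0 := by
    rintro rfl
    have := hE 1
    rw [eval_zero, C_1, one_mul, one_mul, add_sub_cancel, add_sub_cancel] at this
    exact hD0 this.symm
  have hEF : E * F ≠ 0 := mul_ne_zero hE0 hF0
  obtain ⟨c, hc⟩ : ∃ c : k, (E * F).eval c ≠ 0 := by
    by_contra hcon
    push Not at hcon
    exact hEF (Polynomial.funext (fun c => by rw [hcon c, eval_zero]))
  rw [eval_mul] at hc
  have hcE : DD n (P2 + C c * (P0 - P2)) (Y2 + C c * (Y0 - Y2)) ≠ 0 := by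
    rw [← hE]; exact left_ne_zero_of_mul hc
  have hcF : DD n (P0 + C c * (P1 - P0)) (Y0 + C c * (Y1 - Y0)) ≠ 0 := by
    rw [← hF]; exact right_ne_zero_of_mul hc
  have hbP : ∀ P Q : k[X], (∀ j, n ≤ j → P.coeff j = 0) → (∀ j, n ≤ j → Q.coeff j = 0) →
      ∀ j, n ≤ j → (P + C c * (Q - P)).coeff j = 0 := by
    intro P Q hP hQ j hj
    rw [coeff_add, coeff_C_mul, coeff_sub, hP j hj, hQ j hj]; simp
  have hbY : ∀ P Q : k[X], (∀ j, n < j → P.coeff j = 0) → (∀ j, n < j → Q.coeff j = 0) →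
      ∀ j, n < j → (P + C c * (Q - P)).coeff j = 0 := by
    intro P Q hP hQ j hj
    rw [coeff_add, coeff_C_mul, coeff_sub, hP j hj, hQ j hj]; simp
  have hb0 : ∀ P Q : k[X], P.coeff 0 = 1 → Q.coeff 0 = 1 → (P + C c * (Q - P)).coeff 0 = 1 := by
    intro P Q hP hQ
    rw [coeff_add, coeff_C_mul, coeff_sub, hP, hQ]; simp
  have r1 := generic_mem α h0 hu hl n _ _ (hbP P0 P1 hP0 hP1) (hbY Y0 Y1 hY0 hY1) (hb0 Y0 Y1 hY00 hY10) hcF
  have r2 := generic_mem α h0 hu hl n _ _ (hbP P2 P0 hP2 hP0) (hbY Y2 Y0 hY2 hY0) (hb0 Y2 Y0 hY20 hY00) hcE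
  refine ⟨_, _, r1, ?_⟩
  have f1 : y * (α * aeval α (P0 + C c * (P1 - P0))) = α * aeval α (P2 + C c * (P0 - P2)) := by
    simp only [map_add, map_mul, map_sub, aeval_C]
    have : α * aeval α P1 = y⁻¹ * (α * aeval α P0) := hP1x
    have h2 : α * aeval α P2 = y * (α * aeval α P0) := hP2x
    have h3 : y * (α * aeval α P1) = α * aeval α P0 := by rw [this, mul_inv_cancel_left₀ hy0]
    linear_combination (algebraMap k K c) * h3 + (algebraMap k K c - 1) * h2
  have f2 : y * aeval α (Y0 + C c * (Y1 - Y0)) = aeval α (Y2 + C c * (Y0 - Y2)) := by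
    simp only [map_add, map_mul, map_sub, aeval_C]
    have h3 : y * aeval α Y1 = aeval α Y0 := by rw [hY1x, mul_inv_cancel_left₀ hy0]
    linear_combination (algebraMap k K c) * h3 + (algebraMap k K c - 1) * hY2x
  rw [f1, f2]
  exact r2

end field

end Cfsg.Agent.H732
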