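/-
Special rank one pairs: the partner map, the elements n(a), the basic identity (helper732, section 63).
-/
import Cfsg.Agent.H731.SL2Pair

set_option autoImplicit false
open Cfsg
open Cfsg.Agent.H731

namespace Cfsg.Agent.H732

variable {G : Type*} [Group G] {A B : Subgroup G}

/-! ### The partner map `a ↦ b(a)` -/

open Classical in
/-- The partner `b(a)` of `a`: the element `b` of `B#` with `b⁻¹ A b = a⁻¹ B a` (and `1` if there is none). -/
noncomputable def par (A B : Subgroup G) (a : G) : G :=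
  if h : ∃ b : G, b ∈ B ∧ b ≠ 1 ∧ conjBy A b⁻¹ = conjBy B a⁻¹ then h.choose else 1

theorem par_mem (A B : Subgroup G) (a : G) : par A B a ∈ B := by
  unfold par
  split_ifs with h
  · exact h.choose_spec.1
  · exact B.one_mem

theorem par_ne_one (h : IsRankOnePair A B) {a : G} (ha : a ∈ A) (ha1 : a ≠ 1) : par A B a ≠ 1 := by
  have hex : ∃ b : G, b ∈ B ∧ b ≠ 1 ∧ conjBy A b⁻¹ = conjBy B a⁻¹ := (rankOne_partner_unique h ha ha1).exists
  unfold par
  rw [dif_pos hex]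
  exact hex.choose_spec.2.1

theorem par_spec (h : IsRankOnePair A B) {a : G} (ha : a ∈ A) (ha1 : a ≠ 1) :
    conjBy A (par A B a)⁻¹ = conjBy B a⁻¹ := by
  have hex : ∃ b : G, b ∈ B ∧ b ≠ 1 ∧ conjBy A b⁻¹ = conjBy B a⁻¹ := (rankOne_partner_unique h ha ha1).exists
  unfold par
  rw [dif_pos hex]
  exact hex.choose_spec.2.2

theorem par_eq (h : IsRankOnePair A B) {a b : G} (ha : a ∈ A) (ha1 : a ≠ 1) (hb : b ∈ B)
    (hab : conjBy A b⁻¹ = conjBy B a⁻¹) : par A B a = b :=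
  rankOne_existsUnique_right h (par_mem A B a) hb (par_spec h ha ha1) hab

theorem par_one (h : IsRankOnePair A B) : par A B 1 = 1 := by
  unfold par
  rw [dif_neg]
  rintro ⟨b, hb, hb1, hab⟩
  rw [inv_one, conjBy_one, conjBy_inv_eq_iff, conjBy_of_mem hb] at hab
  exact h.ne hab

theorem par_injective (h : IsRankOnePair A B) {a a' : G} (ha : a ∈ A) (ha' : a' ∈ A)
    (haa : par A B a = par A B a') : a = a' := by
  by_cases h1 : a = 1
  · by_cases h2 : a' = 1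
    · rw [h1, h2]
    · rw [h1, par_one h] at haa
      exact absurd haa.symm (par_ne_one h ha' h2)
  · by_cases h2 : a' = 1
    · rw [h2, par_one h] at haa
      exact absurd haa (par_ne_one h ha h1)
    · have h3 := par_spec h ha h1
      have h4 := par_spec h ha' h2
      rw [haa] at h3
      exact inv_inj.1 (rankOne_conj_inj h (A.inv_mem ha) (A.inv_mem ha') (h3.symm.trans h4))

/-- Compatibility of partners with elements normalizing `A` and `B`. -/
theorem par_conj (h : IsRankOnePair A B) {a g : G} (ha : a ∈ A) (hA : conjBy A g = A) (hB : conjBy B g = B) :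
    par A B (g * a * g⁻¹) = g * par A B a * g⁻¹ := by
  by_cases ha1 : a = 1
  · subst ha1
    simp [par_one h]
  · have hga : g * a * g⁻¹ ∈ A := by
      have := conj_mem_conjBy ha g
      rwa [hA] at this
    have hgb : g * par A B a * g⁻¹ ∈ B := by
      have := conj_mem_conjBy (par_mem A B a) g
      rwa [hB] at this
    have hga1 : g * a * g⁻¹ ≠ 1 := by
      intro h1
      apply ha1
      have : a = g⁻¹ * (g * a * g⁻¹) * g := by simp [mul_assoc]
      rw [this, h1]; simp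
    refine par_eq h hga hga1 hgb ?_
    have h2 := congrArg (fun C => conjBy C g) (par_spec h ha ha1)
    simp only [conjBy_conjBy] at h2
    have h3 : conjBy A (g * (par A B a)⁻¹) = conjBy (conjBy A g⁻¹) (g * (par A B a)⁻¹) := by
      rw [(conjBy_inv_eq_iff).2 hA.symm]
    have h4 : conjBy B (g * a⁻¹) = conjBy (conjBy B g⁻¹) (g * a⁻¹) := by
      rw [(conjBy_inv_eq_iff).2 hB.symm]
    rw [h3, h4, conjBy_conjBy, conjBy_conjBy] at h2
    simpa [mul_assoc] using h2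

/-! ### Special pairs -/

/-- `n(a) = a b(a)⁻¹ a`. -/
noncomputable def nn (A B : Subgroup G) (a : G) : G := a * (par A B a)⁻¹ * a

theorem par_braid (hs : IsSpecialRankOnePair A B) {a : G} (ha : a ∈ A) :
    a * (par A B a)⁻¹ * a = (par A B a)⁻¹ * a * (par A B a)⁻¹ := by
  by_cases ha1 : a = 1
  · subst ha1; simp [par_one hs.1]
  · have h := hs.2 a ha ha1 (par A B a) (par_mem A B a) (par_ne_one hs.1 ha ha1) (par_spec hs.1 ha ha1)
    -- b⁻¹ a b = a⁻¹ b⁻¹ a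
    have h2 : a * ((par A B a)⁻¹ * a * par A B a) = a * (a⁻¹ * (par A B a)⁻¹ * a) := by rw [h]
    have h3 : a * (par A B a)⁻¹ * a * par A B a = (par A B a)⁻¹ * a := by
      simpa [mul_assoc] using h2
    rw [← h3]
    simp [mul_assoc]

theorem nn_eq (hs : IsSpecialRankOnePair A B) {a : G} (ha : a ∈ A) :
    nn A B a = (par A B a)⁻¹ * a * (par A B a)⁻¹ := par_braid hs ha

theorem par_eq_nn (a : G) : par A B a = a * (nn A B a)⁻¹ * a := by
  unfold nn; simp [mul_assoc]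

/-- `a^{n(a)} = b(a)⁻¹`. -/
theorem nn_conj_self (hs : IsSpecialRankOnePair A B) {a : G} (ha : a ∈ A) :
    (nn A B a)⁻¹ * a * nn A B a = (par A B a)⁻¹ := by
  have h1 : a * nn A B a = nn A B a * (par A B a)⁻¹ := by
    conv_lhs => rw [nn_eq hs ha]
    conv_rhs => rw [nn]
    simp [mul_assoc]
  rw [mul_assoc, h1, inv_mul_cancel_left]

/-- `b(a)^{n(a)} = a⁻¹`. -/
theorem nn_conj_par (hs : IsSpecialRankOnePair A B) {a : G} (ha : a ∈ A) :
    (nn A B a)⁻¹ * par A B a * nn A B a = a⁻¹ := by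
  have h1 : (par A B a)⁻¹ * nn A B a = nn A B a * a := by
    conv_rhs => rw [nn_eq hs ha]
    conv_lhs => rw [nn]
    simp [mul_assoc]
  have h2 : (nn A B a)⁻¹ * (par A B a)⁻¹ * nn A B a = a := by
    rw [mul_assoc, h1, inv_mul_cancel_left]
  have h3 := congrArg (fun x => x⁻¹) h2
  simpa [mul_assoc] using h3

theorem nn_mem (A B : Subgroup G) {a : G} (ha : a ∈ A) : nn A B a ∈ A ⊔ B :=
  Subgroup.mul_mem _ (Subgroup.mul_mem _ (Subgroup.mem_sup_left ha)
    (Subgroup.mem_sup_right (B.inv_mem (par_mem A B a)))) (Subgroup.mem_sup_left ha)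

/-- `A^{n(a)⁻¹} = B`. -/
theorem conjBy_nn_left (hs : IsSpecialRankOnePair A B) {a : G} (ha : a ∈ A) (ha1 : a ≠ 1) :
    conjBy A (nn A B a) = B := by
  have h1 : nn A B a = a * (par A B a)⁻¹ * a := rfl
  rw [h1, ← conjBy_conjBy, conjBy_of_mem ha, ← conjBy_conjBy, par_spec hs.1 ha ha1, conjBy_conjBy,
    mul_inv_cancel, conjBy_one]

/-- `B^{n(a)} = A`. -/
theorem conjBy_nn_inv_right (hs : IsSpecialRankOnePair A B) {a : G} (ha : a ∈ A) (ha1 : a ≠ 1) :
    conjBy B (nn A B a)⁻¹ = A := by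
  rw [conjBy_inv_eq_iff, conjBy_nn_left hs ha ha1]

/-- `A^{n(a)} = B`. -/
theorem conjBy_nn_inv_left (hs : IsSpecialRankOnePair A B) {a : G} (ha : a ∈ A) (ha1 : a ≠ 1) :
    conjBy A (nn A B a)⁻¹ = B := by
  have hmemA := left_mem_unipotentSubgroups A B
  have hmemB := right_mem_unipotentSubgroups hs.1
  have hD : conjBy A (nn A B a)⁻¹ ∈ unipotentSubgroups A B :=
    conjBy_mem_unipotentSubgroups hmemA (Subgroup.inv_mem _ (nn_mem A B ha))
  by_contra hne
  have hinf := rankOne_inf_of_mem hs.1 hD hmemB hne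
  -- both contain `b(a)⁻¹ = a^{n(a)}`
  have h1 : (par A B a)⁻¹ ∈ conjBy A (nn A B a)⁻¹ := by
    rw [← nn_conj_self hs ha]
    have := conj_mem_conjBy ha (nn A B a)⁻¹
    rwa [inv_inv] at this
  have h2 : (par A B a)⁻¹ ∈ conjBy A (nn A B a)⁻¹ ⊓ B := ⟨h1, B.inv_mem (par_mem A B a)⟩
  rw [hinf, Subgroup.mem_bot, inv_eq_one] at h2
  exact par_ne_one hs.1 ha ha1 h2

/-- `B^{n(a)⁻¹} = A`. -/
theorem conjBy_nn_right (hs : IsSpecialRankOnePair A B) {a : G} (ha : a ∈ A) (ha1 : a ≠ 1) :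
    conjBy B (nn A B a) = A := by
  rw [conjBy_eq_iff, conjBy_nn_inv_left hs ha ha1]

/-- `b(a⁻¹) = b(a)⁻¹`. -/
theorem par_inv (hs : IsSpecialRankOnePair A B) {a : G} (ha : a ∈ A) : par A B a⁻¹ = (par A B a)⁻¹ := by
  by_cases ha1 : a = 1
  · subst ha1; simp [par_one hs.1]
  refine par_eq hs.1 (A.inv_mem ha) (by simpa using ha1) (B.inv_mem (par_mem A B a)) ?_
  rw [inv_inv, inv_inv]
  -- A^{b⁻¹} = B^{a⁻¹}
  have h1 := conjBy_nn_inv_left hs ha ha1
  have h2 : (nn A B a)⁻¹ = a⁻¹ * par A B a * a⁻¹ := by unfold nn; simp [mul_assoc]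
  rw [h2, ← conjBy_conjBy, conjBy_of_mem (A.inv_mem ha), ← conjBy_conjBy, conjBy_inv_eq_iff] at h1
  exact h1

theorem nn_inv (hs : IsSpecialRankOnePair A B) {a : G} (ha : a ∈ A) : nn A B a⁻¹ = (nn A B a)⁻¹ := by
  unfold nn
  rw [par_inv hs ha]
  simp [mul_assoc]

theorem par_conj_nn_mem (hs : IsSpecialRankOnePair A B) {y b : G} (hy : y ∈ A) (hy1 : y ≠ 1) (hb : b ∈ B) :
    (nn A B y)⁻¹ * b * nn A B y ∈ A := by
  have := conj_mem_conjBy hb (nn A B y)⁻¹
  rwa [conjBy_nn_inv_right hs hy hy1, inv_inv] at this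

/-- The basic identity: `b(x) b(y)⁻¹ = b(b(x y⁻¹)^{n(y)} y⁻¹)`. -/
theorem par_identity (hs : IsSpecialRankOnePair A B) {x y : G} (hx : x ∈ A) (hx1 : x ≠ 1) (hy : y ∈ A) (hy1 : y ≠ 1)
    (hxy : x ≠ y) :
    par A B x * (par A B y)⁻¹ = par A B ((nn A B y)⁻¹ * par A B (x * y⁻¹) * nn A B y * y⁻¹) := by
  have hxy1 : x * y⁻¹ ≠ 1 := fun h => hxy (mul_inv_eq_one.1 h)
  have hxyA : x * y⁻¹ ∈ A := A.mul_mem hx (A.inv_mem hy)
  have hw : (nn A B y)⁻¹ * par A B (x * y⁻¹) * nn A B y * y⁻¹ ∈ A :=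
    A.mul_mem (par_conj_nn_mem hs hy hy1 (par_mem A B _)) (A.inv_mem hy)
  have hkey : conjBy A (par A B x * (par A B y)⁻¹)⁻¹ =
      conjBy B ((nn A B y)⁻¹ * par A B (x * y⁻¹) * nn A B y * y⁻¹)⁻¹ := by
    have e1 : (par A B x * (par A B y)⁻¹)⁻¹ = par A B y * (par A B x)⁻¹ := by simp
    rw [e1, ← conjBy_conjBy, par_spec hs.1 hx hx1, conjBy_conjBy]
    have e2 : par A B y * x⁻¹ = y * (nn A B y)⁻¹ * (x * y⁻¹)⁻¹ := by
      conv_lhs => rw [par_eq_nn (A := A) (B := B) y]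
      simp [mul_assoc]
    rw [e2, ← conjBy_conjBy, ← par_spec hs.1 hxyA hxy1, conjBy_conjBy]
    have e3 : ((nn A B y)⁻¹ * par A B (x * y⁻¹) * nn A B y * y⁻¹)⁻¹ =
        y * (nn A B y)⁻¹ * (par A B (x * y⁻¹))⁻¹ * nn A B y := by simp [mul_assoc]
    have e4 : conjBy B (y * (nn A B y)⁻¹ * (par A B (x * y⁻¹))⁻¹ * nn A B y) =
        conjBy A (y * (nn A B y)⁻¹ * (par A B (x * y⁻¹))⁻¹) := by
      rw [← conjBy_conjBy, conjBy_nn_right hs hy hy1]
    rw [e3, e4]
  by_cases hw1 : (nn A B y)⁻¹ * par A B (x * y⁻¹) * nn A B y * y⁻¹ = 1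
  · exfalso
    rw [hw1, inv_one, conjBy_one, conjBy_inv_eq_iff,
      conjBy_of_mem (B.mul_mem (par_mem A B x) (B.inv_mem (par_mem A B y)))] at hkey
    exact hs.1.ne hkey
  · exact (par_eq hs.1 hw hw1 (B.mul_mem (par_mem A B x) (B.inv_mem (par_mem A B y))) hkey).symm

end Cfsg.Agent.H732
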