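import Cfsg.Prelude.Def_Classical
import Cfsg.Prelude.Def_Transfer
import Cfsg.Agent.S0280
import Cfsg.Agent.S0283

/-! `PSU₆(2)`: order, simplicity, an elementary abelian subgroup of order 9. -/

set_option autoImplicit false
open Cfsg Matrix

namespace Cfsg.Agent.H732.USix

set_option linter.unusedSectionVars false

variable {F : Type*} [Field F] [Fintype F]

theorem units_cube (hF : Fintype.card F = 4) (a : Fˣ) : a ^ 3 = 1 := by
  classical
  have h : Fintype.card Fˣ = 3 := by rw [Fintype.card_units, hF]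
  rw [← h]; exact pow_card_eq_one

def vec (a b : Fˣ) : Fin 6 → F := ![(a : F), ((a⁻¹ : Fˣ) : F), (b : F), ((b⁻¹ : Fˣ) : F), 1, 1]

theorem vec_mul (a b c d : Fˣ) (i : Fin 6) : vec (a * c) (b * d) i = vec a b i * vec c d i := by
  fin_cases i <;> simp [vec, mul_comm]

theorem vec_cube (hF : Fintype.card F = 4) (a b : Fˣ) (i : Fin 6) : vec a b i ^ 3 = 1 := by
  have h1 : (a : F) ^ 3 = 1 := by
    have := congrArg (fun x : Fˣ => (x : F)) (units_cube hF a); simpa using this
  have h1' : ((a⁻¹ : Fˣ) : F) ^ 3 = 1 := by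
    have := congrArg (fun x : Fˣ => (x : F)) (units_cube hF a⁻¹); simpa using this
  have h2 : (b : F) ^ 3 = 1 := by
    have := congrArg (fun x : Fˣ => (x : F)) (units_cube hF b); simpa using this
  have h2' : ((b⁻¹ : Fˣ) : F) ^ 3 = 1 := by
    have := congrArg (fun x : Fˣ => (x : F)) (units_cube hF b⁻¹); simpa using this
  fin_cases i
  · exact h1
  · exact h1'
  · exact h2
  · exact h2'
  · exact one_pow 3
  · exact one_pow 3

def dg : Fˣ × Fˣ →* SpecialLinearGroup (Fin 6) F where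
  toFun x := ⟨Matrix.diagonal (vec x.1 x.2), by
    rw [det_diagonal]
    simp [vec, Fin.prod_univ_succ]⟩
  map_one' := by
    apply Subtype.ext
    show Matrix.diagonal (vec 1 1) = 1
    rw [← Matrix.diagonal_one]
    congr 1
    funext i
    fin_cases i <;> simp [vec]
  map_mul' x y := by
    apply Subtype.ext
    show Matrix.diagonal (vec (x.1 * y.1) (x.2 * y.2)) = Matrix.diagonal _ * Matrix.diagonal _
    rw [Matrix.diagonal_mul_diagonal]
    congr 1
    funext i
    exact vec_mul _ _ _ _ i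

theorem dg_mem (hF : Fintype.card F = 4) (x : Fˣ × Fˣ) : dg x ∈ SU 6 F 2 := by
  intro u v
  show hermForm 6 F 2 (Matrix.diagonal (vec x.1 x.2) *ᵥ u) (Matrix.diagonal (vec x.1 x.2) *ᵥ v) = _
  unfold hermForm
  refine Finset.sum_congr rfl fun i _ => ?_
  rw [mulVec_diagonal, mulVec_diagonal, mul_pow]
  have := vec_cube hF x.1 x.2 i
  calc vec x.1 x.2 i * u i * (vec x.1 x.2 i ^ 2 * v i ^ 2) = vec x.1 x.2 i ^ 3 * (u i * v i ^ 2) := by ring
    _ = _ := by rw [this, one_mul]

/-- the 3-cycle on the coordinates `0, 2, 4` -/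
def cyc : Equiv.Perm (Fin 6) := Equiv.swap 0 2 * Equiv.swap 2 4

def cycM : SpecialLinearGroup (Fin 6) F := ⟨cyc.permMatrix F, by
  rw [Matrix.det_permutation]
  have : Equiv.Perm.sign cyc = 1 := by decide
  rw [this]; simp⟩

theorem cycM_mem : (cycM : SpecialLinearGroup (Fin 6) F) ∈ SU 6 F 2 := by
  intro u v
  show hermForm 6 F 2 (cyc.permMatrix F *ᵥ u) (cyc.permMatrix F *ᵥ v) = _
  have h : ∀ w : Fin 6 → F, cyc.permMatrix F *ᵥ w = w ∘ cyc := by
    intro w
    funext i
    simp [Matrix.mulVec, dotProduct, Equiv.Perm.permMatrix, Equiv.toPEquiv_apply, PEquiv.toMatrix_apply]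
  rw [h, h]
  unfold hermForm
  exact Equiv.sum_comp cyc (fun i => u i * v i ^ 2)

theorem dg_center (hF : Fintype.card F = 4) (x : Fˣ × Fˣ)
    (h : (⟨dg x, dg_mem hF x⟩ : SU 6 F 2) ∈ Subgroup.center (SU 6 F 2)) : x = 1 := by
  have h1 := Subgroup.mem_center_iff.1 h ⟨cycM, cycM_mem⟩
  have h2 : cyc.permMatrix F * Matrix.diagonal (vec x.1 x.2) = Matrix.diagonal (vec x.1 x.2) * cyc.permMatrix F := by
    have := congrArg (fun y : SU 6 F 2 => ((y : SpecialLinearGroup (Fin 6) F) : Matrix (Fin 6) (Fin 6) F)) h1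
    exact this
  have key : ∀ i j : Fin 6, cyc i = j → vec x.1 x.2 i = vec x.1 x.2 j := by
    intro i j hij
    have h3 := congrFun (congrFun h2 i) j
    rw [Matrix.mul_diagonal, Matrix.diagonal_mul] at h3
    have h4 : cyc.permMatrix F i j = 1 := by
      simp [Equiv.Perm.permMatrix, Equiv.toPEquiv_apply, PEquiv.toMatrix_apply, hij]
    rw [h4, one_mul, mul_one] at h3
    exact h3.symm
  have ha : (x.1 : F) = 1 ∧ (x.2 : F) = 1 := by
    have e1 := key 0 2 (by decide)
    have e2 := key 2 4 (by decide)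
    have e3 := key 4 0 (by decide)
    simp only [vec] at e1 e2 e3
    have f2 : (x.2 : F) = 1 := by simpa using e2
    have f3 : (1 : F) = x.1 := by simpa using e3
    exact ⟨f3.symm, f2⟩
  exact Prod.ext (Units.ext ha.1) (Units.ext ha.2)

/-- the diagonal map into `PSU₆(2)` -/
def dgP (hF : Fintype.card F = 4) : Fˣ × Fˣ →* PSU 6 F 2 :=
  (QuotientGroup.mk' _).comp (MonoidHom.codRestrict dg (SU 6 F 2) (dg_mem hF))

theorem dgP_injective (hF : Fintype.card F = 4) : Function.Injective (dgP hF) := by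
  rw [injective_iff_map_eq_one]
  intro x hx
  apply dg_center hF
  exact (QuotientGroup.eq_one_iff _).1 hx

theorem exists_nine (hF : Fintype.card F = 4) :
    ∃ E : Subgroup (PSU 6 F 2), IsElementaryAbelian 3 E ∧ Nat.card E = 9 := by
  classical
  refine ⟨(dgP hF).range, ⟨⟨⟨?_⟩⟩, ?_⟩, ?_⟩
  · rintro ⟨_, ⟨x, rfl⟩⟩ ⟨_, ⟨y, rfl⟩⟩
    apply Subtype.ext
    show dgP hF x * dgP hF y = dgP hF y * dgP hF x
    rw [← map_mul, ← map_mul, mul_comm]
  · rintro _ ⟨x, rfl⟩
    rw [← map_pow]
    have : x ^ 3 = 1 := Prod.ext (units_cube hF x.1) (units_cube hF x.2)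
    rw [this, map_one]
  · rw [← Nat.card_congr (MonoidHom.ofInjective (dgP_injective hF)).toEquiv, Nat.card_prod, Nat.card_eq_fintype_card,
      Fintype.card_units, hF]

theorem card_psu6 (hF : Fintype.card F = 4) : Nat.card (PSU 6 F 2) = 9196830720 := by
  have h := S0280.result (F := F) (q := 2) (by rw [hF]; norm_num) 6 (by norm_num)
  norm_num [Finset.prod_range_succ] at h
  have h3 : Nat.gcd 6 3 = 3 := by decide
  omega

theorem simple_psu6 (hF : Fintype.card F = 4) : IsSimpleGroup (PSU 6 F 2) :=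
  S0283.result (F := F) (q := 2) (by rw [hF]; norm_num) 6 (by norm_num) (by norm_num)

end Cfsg.Agent.H732.USix
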