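import Cfsg.Agent.H732.ClassLower
import Cfsg.Agent.H362.ReeCounts2

/-!
# The small Ree groups have at least `q + 3` conjugacy classes (helper732)
-/

set_option autoImplicit false
set_option linter.unusedSectionVars false

namespace Cfsg.Agent.H732.ReeClasses

open Subgroup
open Cfsg.Agent.LieRecognition
open Cfsg.Agent.LieRecognition.ReeAbs Cfsg.Agent.LieRecognition.ReeSylowThree
  Cfsg.Agent.LieRecognition.ReeSplit Cfsg.Agent.LieRecognition.ReeTorusB
  Cfsg.Agent.LieRecognition.ReeInv Cfsg.Agent.LieRecognition.ReeClass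
open Cfsg.Agent.H732.ClassLower

/-! ### the torus of order `q + 1` -/

section EA

variable {G : Type*} [Group G] [Finite G] {L : Type*} [Group L] {q : ℕ} {a : G} {f : L →* G}
  {i j u t₀ : L} {T : Subgroup L}

theorem mul_inj (S : Setup G L q a f i j u t₀ T) :
    Function.Injective (fun p : S.V × S.A => (p.1 : G) * (p.2 : G)) := by
  rintro ⟨e, r⟩ ⟨e', r'⟩ h
  have h1 : (e : G) * r = e' * r' := h
  have h2 : (e' : G)⁻¹ * e = r' * (r : G)⁻¹ := by
    rw [inv_mul_eq_iff_eq_mul, ← mul_assoc, ← h1, mul_inv_cancel_right]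
  have h3 : (r' : G) * (r : G)⁻¹ ∈ S.A := S.A.mul_mem r'.2 (S.A.inv_mem r.2)
  have h4 : (e' : G)⁻¹ * e ∈ S.V := S.V.mul_mem (S.V.inv_mem e'.2) e.2
  have h5 : (r' : G) * (r : G)⁻¹ = 1 := by
    by_contra hne
    apply S.ne_sq h3 hne
    rw [← h2]
    exact S.V_sq h4
  have h6 : (r' : G) = r := mul_inv_eq_one.1 h5
  have h7 : (e' : G) = e := by
    rw [h5] at h2
    exact inv_mul_eq_one.1 h2
  exact Prod.ext (Subtype.ext h7.symm) (Subtype.ext h6.symm)

theorem card_EA_ge (S : Setup G L q a f i j u t₀ T) : q + 1 ≤ Nat.card S.EA := by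
  have h1 : Function.Injective (fun p : S.V × S.A => (⟨(p.1 : G) * (p.2 : G), p.1, p.1.2, p.2, p.2.2, rfl⟩ : S.EA)) := by
    intro p p' h
    exact mul_inj S (congrArg Subtype.val h)
  have h2 := Nat.card_le_card_of_injective _ h1
  rw [Nat.card_prod, S.card_V, S.card_A] at h2
  have := S.q8
  omega

theorem EA_le_N (S : Setup G L q a f i j u t₀ T) : S.EA ≤ S.N := by
  intro x hx
  apply mem_normalizer_of_forall
  intro e he
  have h1 := S.EA_comm hx (S.V_le_EA he)
  have h2 : x * e * x⁻¹ = e := by rw [h1]; group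
  rw [h2]
  exact he

/-- the elements of `V × A` outside of `V` -/
noncomputable def XB (S : Setup G L q a f i j u t₀ T) : Finset G :=
  (Set.toFinite {x : G | ∃ e ∈ S.V, ∃ r ∈ S.A, r ≠ 1 ∧ x = e * r}).toFinset

theorem mem_XB (S : Setup G L q a f i j u t₀ T) {x : G} :
    x ∈ XB S ↔ ∃ e ∈ S.V, ∃ r ∈ S.A, r ≠ 1 ∧ x = e * r := by
  unfold XB
  rw [Set.Finite.mem_toFinset]
  rfl

theorem card_XB (S : Setup G L q a f i j u t₀ T) : q - 3 ≤ (XB S).card := by
  classical
  have := Fintype.ofFinite S.A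
  have h1 : Function.Injective (fun p : S.V × {r : S.A // r ≠ 1} => (⟨(p.1 : G) * ((p.2 : S.A) : G),
      (mem_XB S).2 ⟨p.1, p.1.2, p.2.1, p.2.1.2, fun h => p.2.2 (Subtype.ext h), rfl⟩⟩ : {x // x ∈ XB S})) := by
    rintro ⟨e, r⟩ ⟨e', r'⟩ h
    have h2 := mul_inj S (a₁ := (e, r.1)) (a₂ := (e', r'.1)) (congrArg Subtype.val h)
    obtain ⟨h3, h4⟩ := Prod.mk.inj h2
    exact Prod.ext h3 (Subtype.ext h4)
  have h2 := Nat.card_le_card_of_injective _ h1
  have h3 : Nat.card {x // x ∈ XB S} = (XB S).card := by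
    rw [Nat.card_eq_fintype_card, Fintype.card_coe]
  rw [h3, Nat.card_prod, S.card_V, Nat.card_eq_fintype_card (α := {r : S.A // r ≠ 1}),
    Fintype.card_subtype_compl, Fintype.card_subtype_eq, ← Nat.card_eq_fintype_card, S.card_A] at h2
  have := S.q8
  omega

theorem XB_sq (S : Setup G L q a f i j u t₀ T) {e r : G} (he : e ∈ S.V) (hr : r ∈ S.A) : (e * r) * (e * r) = r * r := by
  have h1 := S.A_comm_V hr he
  calc (e * r) * (e * r) = e * (r * e) * r := by group
    _ = e * (e * r) * r := by rw [h1]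
    _ = (e * e) * (r * r) := by group
    _ = r * r := by rw [S.V_sq he, one_mul]

open scoped Classical in
theorem classes_XB (S : Setup G L q a f i j u t₀ T) :
    q - 3 ≤ 6 * ((XB S).image ConjClasses.mk).card := by
  refine (card_XB S).trans (card_le_image (XB S) S.N 6 ?_ ?_)
  · intro x hx y hy hxy
    obtain ⟨g, hg⟩ := isConj_iff.1 hxy
    refine ⟨g, ?_, hg⟩
    rw [mem_XB] at hx hy
    obtain ⟨e, he, r, hr, hr1, rfl⟩ := hx
    obtain ⟨e', he', r', hr', hr1', rfl⟩ := hy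
    have h1 : g * (r * r) * g⁻¹ = r' * r' := by
      rw [← XB_sq S he hr, ← XB_sq S he' hr', ← hg]
      group
    have h2 : g⁻¹ ∈ S.N := by
      apply S.TI (S.A.mul_mem hr hr) (S.ne_sq hr hr1)
      rw [inv_inv, h1]
      exact S.A.mul_mem hr' hr'
    have := S.N.inv_mem h2
    rwa [inv_inv] at this
  · intro x hx
    rw [mem_XB] at hx
    obtain ⟨e, he, r, hr, hr1, rfl⟩ := hx
    refine ⟨S.EA, EA_le_N S, fun c hc => S.EA_comm hc ⟨e, he, r, hr, rfl⟩, ?_⟩
    rw [S.card_N]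
    exact Nat.mul_le_mul_left _ (card_EA_ge S)

theorem order_XB (S : Setup G L q a f i j u t₀ T) {x : G} (hx : x ∈ XB S) :
    orderOf x ∣ q + 1 ∧ ¬ orderOf x ∣ 2 := by
  rw [mem_XB] at hx
  obtain ⟨e, he, r, hr, hr1, rfl⟩ := hx
  have hq : (q + 1) / 4 * 4 = q + 1 := by have := S.q8; omega
  constructor
  · apply orderOf_dvd_of_pow_eq_one
    have h1 : (e * r) ^ (q + 1) = ((e * r) ^ 2) ^ (2 * ((q + 1) / 4)) := by
      rw [← pow_mul]; congr 1; omega
    have h2 : r ^ ((q + 1) / 4) = 1 := orderOf_dvd_iff_pow_eq_one.1 (S.A_odd hr)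
    have h3 : r * r = r ^ 2 := (pow_two r).symm
    rw [h1, pow_two, XB_sq S he hr, h3, ← pow_mul, show 2 * (2 * ((q + 1) / 4)) = (q + 1) / 4 * 4 by ring, pow_mul, h2,
      one_pow]
  · intro h1
    have h2 := orderOf_dvd_iff_pow_eq_one.1 h1
    rw [pow_two, XB_sq S he hr] at h2
    exact S.ne_sq hr hr1 h2

end EA

/-! ### the torus of order `q - 1` -/

section H

variable {K : Type*} [Field K] [Fintype K] {G : Type*} [Group G] [Finite G] {m : ℕ}
  {U : K → K → K → G} {h : Kˣ → G} {n : G}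

/-- the elements of the torus of order larger than two -/
noncomputable def XH (_ : Data m U h n) : Finset G := (Set.toFinite {x : G | ∃ a : Kˣ, a ^ 2 ≠ 1 ∧ x = h a}).toFinset

theorem mem_XH (D : Data m U h n) {x : G} : x ∈ XH D ↔ ∃ a : Kˣ, a ^ 2 ≠ 1 ∧ x = h a := by
  unfold XH
  rw [Set.Finite.mem_toFinset]
  rfl

theorem card_XH (D : Data m U h n) (hK : Fintype.card K = 3 ^ (2 * m + 1)) : 3 ^ (2 * m + 1) - 3 ≤ (XH D).card := by
  classical
  have h1 : Function.Injective (fun a : {a : Kˣ // a ^ 2 ≠ 1} => (⟨h a, (mem_XH D).2 ⟨a, a.2, rfl⟩⟩ : {x // x ∈ XH D})) := by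
    intro a b hab
    exact Subtype.ext ((h_eq_iff D).1 (congrArg Subtype.val hab))
  have h2 := Nat.card_le_card_of_injective _ h1
  have h3 : Nat.card {x // x ∈ XH D} = (XH D).card := by
    rw [Nat.card_eq_fintype_card, Fintype.card_coe]
  have h4 : Fintype.card {a : Kˣ // a ^ 2 = 1} ≤ 2 := by
    rw [Fintype.card_subtype]
    refine le_trans (Finset.card_le_card (t := {1, -1}) ?_) Finset.card_le_two
    intro a ha
    rw [Finset.mem_filter] at ha
    rw [Finset.mem_insert, Finset.mem_singleton]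
    exact eq_one_or_neg_one_of_sq ha.2
  have h5 : Fintype.card Kˣ = 3 ^ (2 * m + 1) - 1 := by rw [Fintype.card_units, hK]
  rw [h3, Nat.card_eq_fintype_card] at h2
  have h6 : Fintype.card {a : Kˣ // a ^ 2 ≠ 1} = Fintype.card Kˣ - Fintype.card {a : Kˣ // a ^ 2 = 1} :=
    Fintype.card_subtype_compl _
  omega

open scoped Classical in
theorem classes_XH (D : Data m U h n) (hK : Fintype.card K = 3 ^ (2 * m + 1)) :
    3 ^ (2 * m + 1) - 3 ≤ 2 * ((XH D).image ConjClasses.mk).card := by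
  refine (card_XH D hK).trans (card_le_image (XH D) (nSub D) 2 ?_ ?_)
  · intro x hx y hy hxy
    obtain ⟨g, hg⟩ := isConj_iff.1 hxy
    refine ⟨g, ?_, hg⟩
    rw [mem_XH] at hx hy
    obtain ⟨a, ha, rfl⟩ := hx
    obtain ⟨b, hb, rfl⟩ := hy
    have h1 : g⁻¹ ∈ nSub D := by
      apply mem_nSub_of_conj D hK ha (b := b)
      rw [← hg]
      group
    have := (nSub D).inv_mem h1
    rwa [inv_inv] at this
  · intro x hx
    rw [mem_XH] at hx
    obtain ⟨a, ha, rfl⟩ := hx
    refine ⟨hSub D, hSub_le_nSub D, ?_, ?_⟩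
    · intro c hc
      obtain ⟨b, rfl⟩ := (mem_hSub D).1 hc
      exact D.h_comm b a
    · rw [card_nSub, card_hSub]

theorem order_XH (D : Data m U h n) (hK : Fintype.card K = 3 ^ (2 * m + 1)) {x : G} (hx : x ∈ XH D) :
    orderOf x ∣ 3 ^ (2 * m + 1) - 1 ∧ ¬ orderOf x ∣ 2 := by
  classical
  rw [mem_XH] at hx
  obtain ⟨a, ha, rfl⟩ := hx
  rw [ReeTorus.orderOf_h D]
  refine ⟨?_, fun h1 => ha (orderOf_dvd_iff_pow_eq_one.1 h1)⟩
  rw [← hK, ← Fintype.card_units]
  exact orderOf_dvd_card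

end H

/-! ### the tori with `C(x) = A` for all `x ∈ A#` -/

section TI

variable {G : Type*} [Group G] [Finite G]

/-- the nontrivial elements -/
noncomputable def XT (A : Subgroup G) : Finset G := (Set.toFinite {x : G | x ∈ A ∧ x ≠ 1}).toFinset

theorem mem_XT (A : Subgroup G) {x : G} : x ∈ XT A ↔ x ∈ A ∧ x ≠ 1 := by
  unfold XT
  rw [Set.Finite.mem_toFinset]
  rfl

theorem card_XT (A : Subgroup G) : (XT A).card = Nat.card A - 1 := by
  classical
  have := Fintype.ofFinite A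
  have e : {x // x ∈ XT A} ≃ {x : A // x ≠ 1} :=
    { toFun := fun x => ⟨⟨x, ((mem_XT A).1 x.2).1⟩, fun h => ((mem_XT A).1 x.2).2 (congrArg Subtype.val h)⟩
      invFun := fun x => ⟨x.1, (mem_XT A).2 ⟨x.1.2, fun h => x.2 (Subtype.ext h)⟩⟩
      left_inv := fun x => rfl
      right_inv := fun x => rfl }
  have h3 : Nat.card {x // x ∈ XT A} = (XT A).card := by
    rw [Nat.card_eq_fintype_card, Fintype.card_coe]
  rw [← h3, Nat.card_congr e, Nat.card_eq_fintype_card, Fintype.card_subtype_compl, Fintype.card_subtype_eq,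
    ← Nat.card_eq_fintype_card]

open scoped Classical in
theorem classes_XT (A : Subgroup G) (hA : ∀ x ∈ A, x ≠ 1 → centralizer {x} = A) {e : ℕ}
    (hN : Nat.card (normalizer (A : Set G)) = e * Nat.card A) :
    Nat.card A - 1 ≤ e * ((XT A).image ConjClasses.mk).card := by
  rw [← card_XT]
  refine card_le_image (XT A) (normalizer (A : Set G)) e ?_ ?_
  · intro x hx y hy hxy
    obtain ⟨g, hg⟩ := isConj_iff.1 hxy
    refine ⟨g, ?_, hg⟩
    rw [mem_XT] at hx hy
    apply mem_normalizer_of_forall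
    intro z hz
    rw [← hA y hy.1 hy.2, mem_centralizer_singleton_iff, ← hg]
    rw [← hA x hx.1 hx.2, mem_centralizer_singleton_iff] at hz
    calc g * z * g⁻¹ * (g * x * g⁻¹) = g * (z * x) * g⁻¹ := by group
      _ = g * (x * z) * g⁻¹ := by rw [hz]
      _ = g * x * g⁻¹ * (g * z * g⁻¹) := by group
  · intro x hx
    rw [mem_XT] at hx
    refine ⟨A, Subgroup.le_normalizer, fun c hc => ?_, hN.le⟩
    rw [← hA x hx.1 hx.2, mem_centralizer_singleton_iff] at hc
    exact hc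

theorem order_XT (A : Subgroup G) {x : G} (hx : x ∈ XT A) : orderOf x ∣ Nat.card A ∧ orderOf x ≠ 1 := by
  rw [mem_XT] at hx
  exact ⟨Subgroup.orderOf_dvd_natCard _ hx.1, fun h => hx.2 (orderOf_eq_one_iff.1 h)⟩

end TI

/-! ### assembly -/

section final

/-- the type of an order -/
def ty (q a : ℕ) (d : ℕ) : ℕ :=
  if d = 1 then 0 else if d = 2 then 1 else if d = 3 then 2 else if d = 6 then 3 else if d = 9 then 4 else
    if d ∣ q - 1 then 5 else if d ∣ q + 1 then 6 else if d ∣ a then 7 else 8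

variable {q a b : ℕ}

theorem ty_five (ar : Arith q) {d : ℕ} (h1 : d ∣ q - 1) (h2 : ¬ d ∣ 2) : ty q a d = 5 := by
  have h3 := ar.three_not.2.1
  unfold ty
  rw [if_neg, if_neg, if_neg, if_neg, if_neg, if_pos h1]
  · rintro rfl; exact h3 (Dvd.dvd.trans (by norm_num) h1)
  · rintro rfl; exact h3 (Dvd.dvd.trans (by norm_num) h1)
  · rintro rfl; exact h3 h1
  · rintro rfl; exact h2 dvd_rfl
  · rintro rfl; exact h2 (one_dvd _)

theorem ty_six (ar : Arith q) {d : ℕ} (h1 : d ∣ q + 1) (h2 : ¬ d ∣ 2) : ty q a d = 6 := by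
  have h3 := ar.three_not.1
  unfold ty
  rw [if_neg, if_neg, if_neg, if_neg, if_neg, if_neg, if_pos h1]
  · intro h4
    apply h2
    have h5 := Nat.dvd_sub h1 h4
    have h6 : q + 1 - (q - 1) = 2 := by have := ar.q8; omega
    rwa [h6] at h5
  · rintro rfl; exact h3 (Dvd.dvd.trans (by norm_num) h1)
  · rintro rfl; exact h3 (Dvd.dvd.trans (by norm_num) h1)
  · rintro rfl; exact h3 h1
  · rintro rfl; exact h2 dvd_rfl
  · rintro rfl; exact h2 (one_dvd _)

theorem ty_Q (ar : Arith q) {d : ℕ} (h1 : d ∣ q ^ 2 - q + 1) (h2 : d ≠ 1) :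
    ty q a d = if d ∣ a then 7 else 8 := by
  obtain ⟨p, hp, hpd⟩ := Nat.exists_prime_and_dvd h2
  obtain ⟨p2, p3, -, p4, p5⟩ := ar.prime_Q hp (hpd.trans h1)
  have h3 : ∀ k : ℕ, (∀ p : ℕ, p.Prime → p ∣ k → p = 2 ∨ p = 3) → d ≠ k := by
    rintro k hk rfl
    rcases hk p hp hpd with h | h
    · exact p2 h
    · exact p3 h
  have h23 : ∀ i j : ℕ, ∀ p : ℕ, p.Prime → p ∣ 2 ^ i * 3 ^ j → p = 2 ∨ p = 3 := by
    intro i j p hp h
    rcases (Nat.Prime.dvd_mul hp).1 h with h | h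
    · left; exact (Nat.prime_dvd_prime_iff_eq hp Nat.prime_two).1 (hp.dvd_of_dvd_pow h)
    · right; exact (Nat.prime_dvd_prime_iff_eq hp Nat.prime_three).1 (hp.dvd_of_dvd_pow h)
  unfold ty
  rw [if_neg h2, if_neg (h3 2 (h23 1 0)), if_neg (h3 3 (h23 0 1)), if_neg (h3 6 (h23 1 1)), if_neg (h3 9 (h23 0 2)),
    if_neg (fun h => p4 (hpd.trans h)), if_neg (fun h => p5 (hpd.trans h))]

variable {K : Type*} [Field K] [Fintype K] {G : Type*} [Group G] [Finite G] {m : ℕ}
  {U : K → K → K → G} {h : Kˣ → G} {n : G}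

/-- **The small Ree groups have at least `q + 3` conjugacy classes.** -/
theorem classes (D : Data m U h n) (hm : 1 ≤ m) (hK : Fintype.card K = 3 ^ (2 * m + 1)) (hG : commutator G = ⊤)
    (hcyc : ∀ x : G, x ≠ 1 → orderOf x ∣ (3 ^ (2 * m + 1)) ^ 2 - 3 ^ (2 * m + 1) + 1 →
      IsCyclic (centralizer {x}) ∧
        Nat.card (normalizer (centralizer {x} : Set G)) ∣ 6 * Nat.card (centralizer {x})) :
    3 ^ (2 * m + 1) + 3 ≤ Nat.card (ConjClasses G) := by
  classical
  have : CharP K 3 := ReeAbs.charP_three hK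
  have Dl := ReeSetup.local_of_data D hK
  obtain ⟨f, t₀, S⟩ := ReeSetup.exists_setup D hK hG Dl
  have ar := ReeClass.arith m
  obtain ⟨A, B, c1, c2, k1, k2, n1, n2, z1, z2, -⟩ := ReeSetup.exists_tori D hm hK hG hcyc
  have hord := ReeSetup.orders D hm hK hG hcyc
  have hle : 3 ^ (m + 1) ≤ 3 ^ (2 * m + 1) := Nat.pow_le_pow_right (by norm_num) (by omega)
  have hq27 : 27 ≤ 3 ^ (2 * m + 1) := by
    calc 27 = 3 ^ 3 := by norm_num
      _ ≤ 3 ^ (2 * m + 1) := Nat.pow_le_pow_right (by norm_num) (by omega)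
  have hab : Nat.card A * Nat.card B = (3 ^ (2 * m + 1)) ^ 2 - 3 ^ (2 * m + 1) + 1 := by
    rw [k1, k2]
    have hr : (3 ^ (m + 1)) ^ 2 = 3 * 3 ^ (2 * m + 1) := by ring
    obtain ⟨c, hc⟩ := Nat.exists_eq_add_of_le hle
    have hQ := ar.Q_eq
    set q := 3 ^ (2 * m + 1) with hq
    set r := 3 ^ (m + 1) with hrr
    have e1 : q - r + 1 = c + 1 := by omega
    rw [e1]
    have e2 : (c + 1) * (q + r + 1) + q = q ^ 2 + 1 := by
      rw [hc]
      have h3 : r ^ 2 = 3 * (r + c) := by rw [hr, hc]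
      nlinarith
    omega
  have hcop : ∀ d, d ∣ Nat.card A → d ∣ Nat.card B → d = 1 := by
    intro d h1 h2
    by_contra hd
    obtain ⟨p, hp, hpd⟩ := Nat.exists_prime_and_dvd hd
    obtain ⟨p2, p3, -, -, -⟩ := ar.prime_Q hp (by rw [← hab]; exact (hpd.trans h1).mul_right _)
    have h3 := Nat.dvd_sub (hpd.trans h2) (hpd.trans h1)
    rw [k1, k2] at h3
    have h4 : 3 ^ (2 * m + 1) + 3 ^ (m + 1) + 1 - (3 ^ (2 * m + 1) - 3 ^ (m + 1) + 1) = 2 * 3 ^ (m + 1) := by omega
    rw [h4] at h3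
    rcases (Nat.Prime.dvd_mul hp).1 h3 with h5 | h5
    · exact p2 ((Nat.prime_dvd_prime_iff_eq hp Nat.prime_two).1 h5)
    · exact p3 ((Nat.prime_dvd_prime_iff_eq hp Nat.prime_three).1 (hp.dvd_of_dvd_pow h5))
  obtain ⟨g2, hg2⟩ := (hord 2).2 (Or.inl (by norm_num))
  obtain ⟨g3, hg3⟩ := (hord 3).2 (Or.inl (by norm_num))
  obtain ⟨g6, hg6⟩ := (hord 6).2 (Or.inl (by norm_num))
  obtain ⟨g9, hg9⟩ := (hord 9).2 (Or.inr (Or.inl (by norm_num)))
  let X : ℕ → Finset G := fun i => if i = 0 then {1} else if i = 1 then {g2} else if i = 2 then {g3} else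
    if i = 3 then {g6} else if i = 4 then {g9} else if i = 5 then XH D else if i = 6 then XB S else
    if i = 7 then XT A else XT B
  have hX : ∀ i ∈ Finset.range 9, ∀ x ∈ X i, ty (3 ^ (2 * m + 1)) (Nat.card A) (orderOf x) = i := by
    intro i hi x hx
    rw [Finset.mem_range] at hi
    interval_cases i
    · have hx : x = 1 := by simpa [X] using hx
      rw [hx, orderOf_one]; rfl
    · have hx : x = g2 := by simpa [X] using hx
      rw [hx, hg2]; rfl
    · have hx : x = g3 := by simpa [X] using hx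
      rw [hx, hg3]; rfl
    · have hx : x = g6 := by simpa [X] using hx
      rw [hx, hg6]; rfl
    · have hx : x = g9 := by simpa [X] using hx
      rw [hx, hg9]; rfl
    · have hx : x ∈ XH D := by simpa [X] using hx
      obtain ⟨h1, h2⟩ := order_XH D hK hx
      exact ty_five ar h1 h2
    · have hx : x ∈ XB S := by simpa [X] using hx
      obtain ⟨h1, h2⟩ := order_XB S hx
      exact ty_six ar h1 h2
    · have hx : x ∈ XT A := by simpa [X] using hx
      obtain ⟨h1, h2⟩ := order_XT A hx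
      rw [ty_Q ar (by rw [← hab]; exact h1.mul_right _) h2, if_pos h1]
    · have hx : x ∈ XT B := by simpa [X] using hx
      obtain ⟨h1, h2⟩ := order_XT B hx
      rw [ty_Q ar (by rw [← hab]; exact h1.mul_left _) h2, if_neg]
      intro h3
      exact h2 (hcop _ h3 h1)
  have hsum := sum_le (fun x : G => ty (3 ^ (2 * m + 1)) (Nat.card A) (orderOf x))
    (fun x y hxy => by rw [orderOf_isConj hxy]) (Finset.range 9) X hX
  have h5 := classes_XH D hK
  have h6 := classes_XB S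
  have h7 := classes_XT A z1 (e := 6) (by rw [n1, k1])
  have h8 := classes_XT B z2 (e := 6) (by rw [n2, k2])
  simp only [Finset.sum_range_succ, Finset.sum_range_zero, X] at hsum
  simp only [Finset.image_singleton, Finset.card_singleton, if_true, reduceIte, OfNat.ofNat_ne_zero,
    OfNat.ofNat_ne_one, one_ne_zero] at hsum
  norm_num at hsum
  rw [k1] at h7
  rw [k2] at h8
  omega

end final

end Cfsg.Agent.H732.ReeClasses
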